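import Groth.Agent.Reductive.MTHomLift
import Groth.Agent.Reductive.MTLocTriv
import Groth.Agent.Reductive.HomDiag
import Groth.Prelude.Def_AutFam

/-!
Families of homomorphisms between trivialised groups are locally given by maps of character groups.
-/

set_option autoImplicit false
universe u

open CategoryTheory MonoidalCategory CartesianMonoidalCategory MonObj AlgebraicGeometry Limits

noncomputable section

namespace Groth.Misc15.MTSub

open Groth.Reductive.FreeDiag (ev ev_single)
open Groth.Reductive.MTInt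

variable {S : Scheme.{u}} {H₁ H₂ : Over S} [GrpObj H₁] [GrpObj H₂] {Y : Over S}

/-- A homomorphism of character groups is determined by what it does to values over a nonempty
affine base. -/
theorem charHom_ext [IsAffine Y.left] [Nonempty Y.left] (τ : Triv H₁ Y) {N : Type} [CommGroup N]
    (a a' : N →* Multiplicative τ.M)
    (h : ∀ n, τ.val (snd H₁ Y) (fst H₁ Y) (a n) = τ.val (snd H₁ Y) (fst H₁ Y) (a' n)) : a = a' := by
  refine MonoidHom.ext fun n => ?_
  by_contra hne
  have e : τ.κ (MonoidAlgebra.single (a n) 1) = τ.κ (MonoidAlgebra.single (a' n) 1) := by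
    rw [τ.κ_single, τ.κ_single, h]
  have e' := congrArg (fun z => z.coeff (a n)) (τ.κ_bijective.1 e)
  haveI : Nonempty (⊤ : Y.left.Opens) := ⟨⟨Classical.arbitrary Y.left, trivial⟩⟩
  haveI : Nontrivial Γ(Y.left, ⊤) := inferInstance
  simp [MonoidAlgebra.coeff_single, Finsupp.single_apply, Ne.symm hne] at e'

/-- A family of homomorphisms between trivialised groups is near every point given by a homomorphism
of the character groups. -/
theorem exists_locConst [IsAffine Y.left] (τ₁ : Triv H₁ Y) (τ₂ : Triv H₂ Y) [AddGroup.FG τ₂.M]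
    (φ : H₁ ⊗ Y ⟶ H₂) (hφ : AutFam.IsHomFamily H₁ H₂ φ) (y₀ : Y.left) :
    ∃ (W : Y.left.Opens) (a : Multiplicative τ₂.M →* Multiplicative τ₁.M), y₀ ∈ W ∧
      ∀ (Z : Over S) (z : Z ⟶ Y), Set.range z.left ⊆ (W : Set Y.left) →
        ∀ x : Z ⟶ H₁, τ₂.val z (lift x z ≫ φ) = (τ₁.val z x).comp a := by
  classical
  let c : Multiplicative τ₂.M →* MonoidAlgebra Γ(Y.left, ⊤) (Multiplicative τ₁.M) :=
    τ₁.κE.symm.toMonoidHom.comp (τ₂.val (snd H₁ Y) φ)
  have hval : ∀ {Z : Over S} (x : Z ⟶ H₁) (z : Z ⟶ Y) (n : Multiplicative τ₂.M),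
      ev z.left.appTop.hom (τ₁.val z x) (c n) = τ₂.val z (lift x z ≫ φ) n := by
    intro Z x z n
    rw [← τ₁.appTop_κ, show τ₁.κ (c n) = τ₂.val (snd H₁ Y) φ n from τ₁.κE.apply_symm_apply _]
    have e := DFunLike.congr_fun (τ₂.nat (lift x z) (snd H₁ Y) φ) n
    rw [lift_snd] at e
    exact e.symm
  have hgl : ∀ n (C : Type u) [CommRing C] (jc : Γ(Y.left, ⊤) →+* C) (χ χ' : Multiplicative τ₁.M →* C),
      ev jc χ (c n) * ev jc χ' (c n) = ev jc (χ * χ') (c n) := by
    intro n C _ jc χ χ'
    obtain ⟨Z, _, y, γC, hγC, hy⟩ := exists_testObj (Y := Y) jc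
    apply hγC.1
    have hev : ∀ (ψ : Multiplicative τ₁.M →* C) (x : MonoidAlgebra Γ(Y.left, ⊤) (Multiplicative τ₁.M)),
        γC (ev jc ψ x) = ev y.left.appTop.hom (γC.toMonoidHom.comp ψ) x := fun ψ x ↦ by
      refine RingHom.congr_fun (f := γC.comp (ev jc ψ)) ?_ x
      exact MonoidAlgebra.ringHom_ext (fun r ↦ by simp [ev_single, hy])
        (fun a ↦ by simp [ev_single])
    rw [map_mul, hev, hev, hev,
      ← (τ₁.val y).apply_symm_apply (γC.toMonoidHom.comp χ),
      ← (τ₁.val y).apply_symm_apply (γC.toMonoidHom.comp χ'),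
      show γC.toMonoidHom.comp (χ * χ') = γC.toMonoidHom.comp χ * γC.toMonoidHom.comp χ' from
        MonoidHom.ext fun a ↦ map_mul γC _ _,
      ← (τ₁.val y).apply_symm_apply (γC.toMonoidHom.comp χ * γC.toMonoidHom.comp χ'),
      map_mul (τ₁.val y).symm, hval, hval, hval, hφ, map_mul, MonoidHom.mul_apply]
  have hcmul : ∀ n g, MonoidAlgebra.single 1 ((c n).coeff g) * c n =
      MonoidAlgebra.single g ((c n).coeff g) := fun n g =>
    Groth.Reductive.FreeDiag.single_coeff_mul (c n) (fun C _ jc χ χ' => hgl n C jc χ χ') g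
  have horth : ∀ n g g', g ≠ g' → (c n).coeff g * (c n).coeff g' = 0 := fun n g g' hne => by
    rw [Groth.Reductive.FreeDiag.groupLike_coeff_mul (c n) (fun C _ jc χ χ' => hgl n C jc χ χ'),
      if_neg hne]
  let p : Ideal Γ(Y.left, ⊤) := (Y.left.isoSpec.hom y₀ : PrimeSpectrum _).asIdeal
  haveI : p.IsPrime := (Y.left.isoSpec.hom y₀ : PrimeSpectrum _).isPrime
  have hone : ∀ n, ev (RingHom.id Γ(Y.left, ⊤)) 1 (c n) = 1 := fun n => by
    have e := hval (1 : Y ⟶ H₁) (𝟙 Y) n
    rw [map_one] at e
    have h1 : lift (1 : Y ⟶ H₁) (𝟙 Y) ≫ φ = 1 := by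
      have := hφ Y 1 1 (𝟙 Y)
      rw [_root_.one_mul] at this
      exact left_eq_mul.mp this
    rw [h1, map_one, MonoidHom.one_apply] at e
    simpa using e
  have hex : ∀ n, ∃ g, (c n).coeff g ∉ p := fun n => by
    by_contra hall
    push Not at hall
    refine (Ideal.IsPrime.ne_top (I := p) inferInstance) ((Ideal.eq_top_iff_one p).2 ?_)
    rw [← hone n, Groth.Reductive.FreeDiag.ringHom_eq_sum]
    simp only [ev_single, RingHom.id_apply, MonoidHom.one_apply, _root_.mul_one]
    exact p.sum_mem fun g _ => hall g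
  choose g hg using hex
  have huniq : ∀ n k, (c n).coeff k ∉ p → g n = k := fun n k hk => by
    by_contra hne
    rcases (Ideal.IsPrime.mem_or_mem (I := p) inferInstance
      (show (c n).coeff (g n) * (c n).coeff k ∈ p by rw [horth n _ _ hne]; exact p.zero_mem)) with h | h
    exacts [hg n h, hk h]
  let e : Multiplicative τ₂.M → Γ(Y.left, ⊤) := fun n => (c n).coeff (g n)
  let a : Multiplicative τ₂.M →* Multiplicative τ₁.M :=
    { toFun := g
      map_one' := huniq 1 1 (by
        rw [map_one c, MonoidAlgebra.one_def, MonoidAlgebra.coeff_single, Finsupp.single_eq_same]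
        exact fun h => (Ideal.IsPrime.ne_top (I := p) inferInstance) ((Ideal.eq_top_iff_one p).2 h))
      map_mul' := fun m n => huniq (m * n) (g m * g n) (by
        intro hmem
        have h1 : MonoidAlgebra.single 1 (e m * e n) * c (m * n) =
            MonoidAlgebra.single (g m * g n) (e m * e n) := by
          rw [map_mul, show MonoidAlgebra.single (1 : Multiplicative τ₁.M) (e m * e n) =
              MonoidAlgebra.single 1 (e m) * MonoidAlgebra.single 1 (e n) by
              rw [MonoidAlgebra.single_mul_single, _root_.one_mul], _root_.mul_mul_mul_comm, hcmul, hcmul,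
            MonoidAlgebra.single_mul_single]
        have h2 := congrArg (fun z => z.coeff (g m * g n)) h1
        simp only [MonoidAlgebra.coeff_single_one_mul, MonoidAlgebra.coeff_single,
          Finsupp.single_eq_same] at h2
        have h3 : e m * e n ∈ p := by rw [← h2]; exact p.mul_mem_left _ hmem
        rcases Ideal.IsPrime.mem_or_mem (I := p) inferInstance h3 with h | h
        exacts [hg m h, hg n h]) }
  obtain ⟨T, hT⟩ : Group.FG (Multiplicative τ₂.M) := AddGroup.fg_iff_mul_fg.1 inferInstance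
  let r := ∏ n ∈ T, e n
  have hr : r ∉ p := fun h => by
    obtain ⟨n, -, hn⟩ := (Ideal.IsPrime.prod_mem_iff (p := p)).1 h
    exact hg n hn
  refine ⟨Y.left.basicOpen r, a, ?_, fun Z z hz x => ?_⟩
  · have h : y₀ ∈ Y.left.isoSpec.hom ⁻¹ᵁ
        PrimeSpectrum.basicOpen r := hr
    rwa [Scheme.isoSpec_hom, Scheme.toSpecΓ_preimage_basicOpen] at h
  · refine MonoidHom.eq_of_eqOn_dense hT fun n hn => ?_
    have hu : IsUnit (z.left.appTop r) := by
      refine Z.left.toRingedSpace.isUnit_of_isUnit_germ ⊤ _ fun w _ => ?_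
      have : w ∈ Z.left.basicOpen (z.left.appTop r) := by
        rw [← Scheme.preimage_basicOpen_top]
        exact hz ⟨w, rfl⟩
      exact (Scheme.mem_basicOpen_top _ _ _).1 this
    have hun : IsUnit (z.left.appTop (e n)) := by
      refine isUnit_of_dvd_unit ?_ hu
      exact map_dvd z.left.appTop.hom (Finset.dvd_prod_of_mem _ hn)
    have h1 := congrArg (ev z.left.appTop.hom (τ₁.val z x)) (hcmul n (g n))
    rw [map_mul, ev_single, ev_single, map_one, _root_.mul_one, hval] at h1
    exact hun.mul_left_cancel h1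

end Groth.Misc15.MTSub
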