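import Groth.Agent.Misc15.MTSub.UnivMT
import Groth.Agent.Misc15.HomMT.FiniteType

/-!
Every subgroup of multiplicative type and finite type is classified by a unique point of the model.
-/

set_option autoImplicit false
set_option linter.style.haveILetI false
universe u

open CategoryTheory CategoryTheory.Limits MonoidalCategory CartesianMonoidalCategory MonObj AlgebraicGeometry
open Groth.Reductive Groth.Reductive.MTInt

noncomputable section

namespace Groth.Misc15.MTSub

section Gen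

variable {S : Scheme.{u}}

/-- A group of finite type trivialised over a nonempty affine scheme has finitely generated characters. -/
theorem fg_of_triv {H : Over S} [GrpObj H] [LocallyOfFiniteType H.hom] (hH : IsAffineHom H.hom)
    {Y : Over S} [IsAffine Y.left] [Nonempty Y.left] (τ : Triv H Y) : AddGroup.FG τ.M := by
  haveI : IsAffine (H ⊗ Y).left := isAffine_prod hH Y
  have hl : LocallyOfFiniteType (snd H Y).left :=
    MorphismProperty.pullback_snd (P := @LocallyOfFiniteType) H.hom Y.hom inferInstance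
  have h1 : (sY H Y).FiniteType := HasRingHomProperty.appTop @LocallyOfFiniteType (snd H Y).left hl
  have h2 : (τ.κE.symm.toRingHom.comp (sY H Y)).FiniteType :=
    (RingHom.FiniteType.of_surjective _ τ.κE.symm.surjective).comp h1
  have h3 : τ.κE.symm.toRingHom.comp (sY H Y) =
      algebraMap Γ(Y.left, ⊤) (MonoidAlgebra Γ(Y.left, ⊤) (Multiplicative τ.M)) := RingHom.ext fun r => by
    show τ.κE.symm (sY H Y r) = MonoidAlgebra.single 1 r
    rw [← τ.κ_single_one]
    exact τ.κE.symm_apply_apply _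
  rw [h3] at h2
  haveI : Nonempty (⊤ : Y.left.Opens) := ⟨⟨Classical.arbitrary Y.left, trivial⟩⟩
  haveI : Nontrivial Γ(Y.left, ⊤) := inferInstance
  haveI : Group.FG (Multiplicative τ.M) :=
    MonoidAlgebra.finiteType_iff_group_fg.1 (RingHom.finiteType_algebraMap.1 h2)
  exact AddGroup.fg_iff_mul_fg.2 inferInstance

/-- Membership in a subscheme is local. -/
theorem kPts_of_local {G M K : Over S} (jK : K ⟶ G ⊗ M) [Mono jK.left] {Z : Over S} (z : Z ⟶ M) (g : Z ⟶ G)
    (h : ∀ x : Z.left, ∃ W : Z.left.Opens, x ∈ W ∧ KPts jK (opnIncl Z W ≫ z) (opnIncl Z W ≫ g)) :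
    KPts jK z g := by
  haveI : Mono jK := (Over.forget S).mono_of_mono_map (inferInstanceAs (Mono jK.left))
  exact exists_lift_of_local jK (lift g z) fun x => by
    obtain ⟨W, hx, k, hk⟩ := h x
    exact ⟨W, hx, k, by rw [hk, comp_lift]⟩

theorem kPts_comp {G M K : Over S} {jK : K ⟶ G ⊗ M} {Z Z' : Over S} {z : Z ⟶ M} {g : Z ⟶ G}
    (h : KPts jK z g) (c : Z' ⟶ Z) : KPts jK (c ≫ z) (c ≫ g) := by
  obtain ⟨k, hk⟩ := h
  exact ⟨c ≫ k, by rw [Category.assoc, hk, comp_lift]⟩

end Gen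

variable {S : Scheme.{u}} {G : Over S} [GrpObj G]

section Sub

variable {T : Scheme.{u}} (f : T ⟶ S) {K' : Over T} (j' : K' ⟶ Red.bc f G)

/-- A subscheme of the base change, viewed over the base. -/
def subIncl : (Over.map f).obj K' ⟶ G ⊗ Over.mk f :=
  lift (bcPointEquiv f G K' j') (pr (Over.mk f) K')

theorem subIncl_left : (subIncl f j').left = j'.left := by
  have e1 : ∀ (c : K' ⟶ Red.bc f G), (bcPointEquiv f G K' c).left = c.left ≫ pullback.fst G.hom f := fun c => by
    simp [bcPointEquiv, Adjunction.homEquiv_counit]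
  apply pullback.hom_ext
  · exact (congrArg CommaMorphism.left (lift_fst (bcPointEquiv f G K' j') (pr (Over.mk f) K'))).trans (e1 j')
  · exact (congrArg CommaMorphism.left (lift_snd (bcPointEquiv f G K' j') (pr (Over.mk f) K'))).trans
      (Over.w j').symm

theorem mono_subIncl [Mono j'.left] : Mono (subIncl f j').left := by
  rw [subIncl_left]; exact ‹Mono j'.left›

theorem kPts_subIncl_iff {Z : Over S} (t : Z ⟶ Over.mk f) (g : Z ⟶ G) :
    KPts (subIncl f j') t g ↔
      ∃ k : Z ⟶ (Over.map f).obj K', k ≫ pr (Over.mk f) K' = t ∧ k ≫ bcPointEquiv f G K' j' = g := by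
  constructor
  · rintro ⟨k, hk⟩
    refine ⟨k, ?_, ?_⟩
    · simpa [subIncl] using congrArg (· ≫ snd _ _) hk
    · simpa [subIncl] using congrArg (· ≫ fst _ _) hk
  · rintro ⟨k, rfl, rfl⟩
    exact ⟨k, by rw [subIncl, comp_lift]⟩

variable [GrpObj K'] [IsMonHom j'] [Mono j']

theorem exists_family_of_triv (i : Idx.{u}) {Y : Over T} (τ : Triv K' Y) (e : i.Λ ≃+ τ.M) :
    ∃ φ : Red.DS S i.Λ ⊗ (Over.map f).obj Y ⟶ G, AutFam.IsHomFamily (Red.DS S i.Λ) G φ ∧ InjF φ ∧
      ∀ (W : Over S) (t : W ⟶ (Over.map f).obj Y) (g : W ⟶ G),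
        Img φ t g ↔ KPts (subIncl f j') (t ≫ pr (Over.mk f) Y) g := by
  let eM : Multiplicative τ.M →* Multiplicative i.Λ := AddMonoidHom.toMultiplicative e.symm.toAddMonoidHom
  let eM' : Multiplicative i.Λ →* Multiplicative τ.M := AddMonoidHom.toMultiplicative e.toAddMonoidHom
  have heM : eM.comp eM' = MonoidHom.id _ := MonoidHom.ext fun x => congrArg Multiplicative.ofAdd
    (e.symm_apply_apply x.toAdd)
  let toK : ∀ {n : Over T}, (n ⟶ Y) → ((Over.map f).obj n ⟶ Red.DS S i.Λ) → (n ⟶ K') := fun {n} y h =>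
    (τ.val y).symm ((dsValHom (S := S) (X := (Over.map f).obj n) h : Multiplicative i.Λ →* Γ(n.left, ⊤)).comp eM)
  have htoK : ∀ {n : Over T} (y : n ⟶ Y) (h : (Over.map f).obj n ⟶ Red.DS S i.Λ), τ.val y (toK y h) =
      (dsValHom (S := S) (X := (Over.map f).obj n) h : Multiplicative i.Λ →* Γ(n.left, ⊤)).comp eM :=
    fun y h => (τ.val y).apply_symm_apply _
  clear_value toK
  obtain ⟨n, c, y, hy⟩ := Groth.Misc15.HomMT.exists_over_point f (snd (Red.DS S i.Λ) ((Over.map f).obj Y))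
  let φ : Red.DS S i.Λ ⊗ (Over.map f).obj Y ⟶ G :=
    c.inv ≫ bcPointEquiv f G n (toK y (c.hom ≫ fst _ _) ≫ j')
  have key : ∀ {W : Over S} {n' : Over T} (c' : (Over.map f).obj n' ≅ W) (t : W ⟶ (Over.map f).obj Y)
      (y' : n' ⟶ Y), (Over.map f).map y' = c'.hom ≫ t → ∀ h : W ⟶ Red.DS S i.Λ,
      c'.hom ≫ lift h t ≫ φ = bcPointEquiv f G n' (toK y' (c'.hom ≫ h) ≫ j') := by
    intro W n' c' t y' hy' h
    let w : n' ⟶ n := Over.homMk (c'.hom ≫ lift h t ≫ c.inv).left (by
      have h1 := congrArg CommaMorphism.left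
        (show (c'.hom ≫ lift h t ≫ c.inv) ≫ (Over.map f).map y = (Over.map f).map y' by
          simp [hy, hy'])
      rw [← Over.w y, ← Over.w y', ← Category.assoc]
      exact congrArg (· ≫ Y.hom) h1)
    have hw : (Over.map f).map w = c'.hom ≫ lift h t ≫ c.inv := Over.OverMorphism.ext rfl
    have hwy : w ≫ y = y' := by
      refine Over.OverMorphism.ext ?_
      have h1 := congrArg CommaMorphism.left
        (show (Over.map f).map (w ≫ y) = (Over.map f).map y' by simp [hw, hy, hy'])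
      exact h1
    rw [show c'.hom ≫ lift h t ≫ φ = (Over.map f).map w ≫ bcPointEquiv f G n (toK y (c.hom ≫ fst _ _) ≫ j') by
      rw [hw]; simp only [φ, Category.assoc], ← bcPointEquiv_comp, ← Category.assoc]
    congr 2
    apply (τ.val y').injective
    rw [htoK, ← hwy, τ.nat, htoK]
    refine MonoidHom.ext fun m => ?_
    simp only [MonoidHom.comp_apply, RingHom.toMonoidHom_eq_coe, MonoidHom.coe_coe,
      Groth.Reductive.FreeDiag.dsValHom_apply]
    rw [show c'.hom ≫ h = (Over.map f).map w ≫ c.hom ≫ fst _ _ by rw [hw]; simp, dsVal_comp ((Over.map f).map w)]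
    rfl
  refine ⟨φ, fun W h h' t => ?_, fun W t h he => ?_, fun W t g => ⟨?_, ?_⟩⟩
  · obtain ⟨n', c', y', hy'⟩ := Groth.Misc15.HomMT.exists_over_point f t
    rw [← cancel_epi c'.hom, MonObj.comp_mul, key c' t y' hy', key c' t y' hy', key c' t y' hy',
      ← map_mul, ← MonObj.mul_comp, MonObj.comp_mul]
    congr 2
    apply (τ.val y').injective
    rw [map_mul, htoK, htoK, htoK]
    exact MonoidHom.ext fun m => dsVal_mul (c'.hom ≫ h) (c'.hom ≫ h') (eM m)
  · obtain ⟨n', c', y', hy'⟩ := Groth.Misc15.HomMT.exists_over_point f t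
    have h1 := key c' t y' hy' h
    rw [he, MonObj.comp_one] at h1
    have h2 : toK y' (c'.hom ≫ h) = 1 := by
      rw [← cancel_mono j', MonObj.one_comp]
      exact (bcPointEquiv f G n').injective (h1.symm.trans (map_one _).symm)
    have h3 := congrArg (fun x => (τ.val y' x).comp eM') h2
    simp only [htoK, map_one, MonoidHom.comp_assoc, heM, MonoidHom.comp_id] at h3
    rw [← cancel_epi c'.hom, MonObj.comp_one]
    exact (dsValEquiv i.Λ _).injective (h3.trans (MonoidHom.one_comp eM' |>.trans (map_one _).symm))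
  · rintro ⟨h, rfl⟩
    obtain ⟨n', c', y', hy'⟩ := Groth.Misc15.HomMT.exists_over_point f t
    refine (kPts_subIncl_iff f j' _ _).2 ⟨c'.inv ≫ (Over.map f).map (toK y' (c'.hom ≫ h)), ?_, ?_⟩
    · rw [Category.assoc, show (Over.map f).map (toK y' (c'.hom ≫ h)) ≫ pr (Over.mk f) K' = pr (Over.mk f) n' from
        Over.OverMorphism.ext (Over.w (toK y' (c'.hom ≫ h))), ← cancel_epi c'.hom, c'.hom_inv_id_assoc,
        ← Category.assoc, ← hy']
      exact (Over.OverMorphism.ext (Over.w y')).symm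
    · rw [Category.assoc, ← bcPointEquiv_comp, ← key c' t y' hy' h, c'.inv_hom_id_assoc]
  · intro hk
    obtain ⟨k, hk₁, hk₂⟩ := (kPts_subIncl_iff f j' _ _).1 hk
    obtain ⟨n', c', y', hy'⟩ := Groth.Misc15.HomMT.exists_over_point f t
    let x : n' ⟶ K' := Over.homMk (c'.hom ≫ k).left (by
      have h1 := congrArg CommaMorphism.left
        (show (c'.hom ≫ k) ≫ pr (Over.mk f) K' = (Over.map f).map y' ≫ pr (Over.mk f) Y by
          rw [Category.assoc, hk₁, hy', Category.assoc])
      exact h1.trans (Over.w y'))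
    have hx : (Over.map f).map x = c'.hom ≫ k := Over.OverMorphism.ext rfl
    let h0 : (Over.map f).obj n' ⟶ Red.DS S i.Λ := (dsValEquiv i.Λ _).symm ((τ.val y' x).comp eM')
    refine ⟨c'.inv ≫ h0, ?_⟩
    rw [← cancel_epi c'.hom, key c' t y' hy', c'.hom_inv_id_assoc]
    have h2 : toK y' h0 = x := by
      apply (τ.val y').injective
      rw [htoK]
      have h3 : (dsValHom (S := S) (X := (Over.map f).obj n') h0 : Multiplicative i.Λ →* Γ(n'.left, ⊤)) = (τ.val y' x).comp eM' :=
        (dsValEquiv i.Λ ((Over.map f).obj n')).apply_symm_apply _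
      rw [h3, MonoidHom.comp_assoc]
      exact MonoidHom.ext fun m => congrArg (τ.val y' x) (congrArg Multiplicative.ofAdd (e.apply_symm_apply m.toAdd))
    rw [h2, bcPointEquiv_comp, hx, Category.assoc, hk₂]

end Sub

variable {D : Pieces G} (X : Model D)

namespace Model

theorem existsUnique_point {T : Scheme.{u}} (f : T ⟶ S) {K' : Over T} [GrpObj K'] (j' : K' ⟶ Red.bc f G)
    [IsMonHom j'] [Mono j'.left] (hK' : SGA3x.IsMultTypeFT K')
    (hOk : ∀ (Y : Over T) [IsAffine Y.left] [Nonempty Y.left] (τ : Triv K' Y) (i : Idx.{u}),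
      (i.Λ ≃+ τ.M) → D.Ok i) :
    ∃! v : Over.mk f ⟶ X.M, ∀ (Z : Over S) (t : Z ⟶ Over.mk f) (g : Z ⟶ G),
      KPts (subIncl f j') t g ↔ KPts X.jK (t ≫ v) g := by
  haveI := mono_subIncl f j'
  haveI : Mono j' := (Over.forget T).mono_of_mono_map (inferInstanceAs (Mono j'.left))
  haveI := X.closed
  haveI : Mono X.jK.left := inferInstance
  haveI : LocallyOfFinitePresentation K'.hom :=
    (Groth.Reductive.flat_lfp_of_multTypeFT K' hK' Groth.AlgSp2.flat_descendsAlong inferInstance).2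
  have hchart : ∀ x : T, ∃ (Y : Over T) (_ : Etale Y.hom) (b : (Over.map f).obj Y ⟶ D.U),
      x ∈ Set.range Y.hom ∧ ∀ (W : Over S) (t : W ⟶ (Over.map f).obj Y) (g : W ⟶ G),
        KPts (subIncl f j') (t ≫ pr (Over.mk f) Y) g ↔ D.Pts (t ≫ b) g := by
    intro x
    obtain ⟨Tx, fx, t, hfx, ht, ⟨τ⟩⟩ := Groth.Misc15.HomMT.exists_etale_chart hK' x
    obtain ⟨W, hW, htW, -⟩ := exists_isAffineOpen_mem_and_subset (U := (⊤ : Tx.Opens))
      (show t ∈ (⊤ : Tx.Opens) from trivial)
    let Y : Over T := opnOb (Over.mk fx) W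
    haveI : IsAffine Y.left := hW
    haveI : Nonempty Y.left := ⟨(⟨t, htW⟩ : W)⟩
    let τ' := τ.restrict (opnIncl (Over.mk fx) W)
    haveI := fg_of_triv (locTriv_of_multTypeFT hK').1 τ'
    obtain ⟨i, ⟨e⟩⟩ := exists_idx.{u} τ'.M
    obtain ⟨φ, hφ, hφi, himg⟩ := exists_family_of_triv f j' i τ' e
    obtain ⟨b, hb⟩ := (D.classify i (hOk Y τ' i e) _ φ hφ hφi).exists
    haveI := hfx
    refine ⟨Y, inferInstanceAs (Etale (W.ι ≫ fx)), b ≫ D.inc i, ⟨(⟨t, htW⟩ : W), ?_⟩, fun W' t' g => ?_⟩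
    · show (W.ι ≫ fx) ⟨t, htW⟩ = x
      rw [Scheme.Hom.comp_apply]
      exact ht
    · rw [← himg, ← hb, img_whisker_iff, ← Category.assoc, D.pts_inc_iff]
  choose Y hY b hxY hb using hchart
  let C : Over S := Over.mk (Limits.Sigma.desc fun x => (Y x).hom ≫ f)
  let cT : C ⟶ Over.mk f := Over.homMk (Limits.Sigma.desc fun x => (Y x).hom) (by
    show Limits.Sigma.desc _ ≫ f = Limits.Sigma.desc _
    refine Sigma.hom_ext _ _ fun x => ?_
    rw [Sigma.ι_desc_assoc, Sigma.ι_desc])
  let aT : C ⟶ D.U := Over.homMk (Limits.Sigma.desc fun x => (b x).left) (by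
    show Limits.Sigma.desc _ ≫ D.U.hom = Limits.Sigma.desc _
    refine Sigma.hom_ext _ _ fun x => ?_
    rw [Sigma.ι_desc_assoc, Sigma.ι_desc]
    exact Over.w (b x))
  haveI : Etale cT.left := IsZariskiLocalAtSource.sigmaDesc (P := @Etale) fun x => hY x
  haveI : Surjective cT.left := ⟨fun x => by
    obtain ⟨y, hy⟩ := hxY x
    refine ⟨Sigma.ι (fun x => (Y x).left) x y, ?_⟩
    show (Sigma.ι (fun x => (Y x).left) x ≫ Limits.Sigma.desc fun x => (Y x).hom) y = x
    rw [Sigma.ι_desc]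
    exact hy⟩
  have hrel : ∀ (Z : Over S) (t : Z ⟶ C) (g : Z ⟶ G),
      KPts (subIncl f j') (t ≫ cT) g ↔ D.Pts (t ≫ aT) g := by
    intro Z t g
    have hloc : ∀ z : Z.left, ∃ (W : Z.left.Opens) (x : T) (t' : opnOb Z W ⟶ (Over.map f).obj (Y x)),
        z ∈ W ∧ t' ≫ pr (Over.mk f) (Y x) = opnIncl Z W ≫ t ≫ cT ∧ t' ≫ b x = opnIncl Z W ≫ t ≫ aT := by
      intro z
      obtain ⟨⟨x, y⟩, hy⟩ := (sigmaMk (fun x => (Y x).left)).surjective (t.left z)
      let ιx : (Y x).left ⟶ C.left := Sigma.ι (fun x => (Y x).left) x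
      haveI : IsOpenImmersion ιx := inferInstanceAs (IsOpenImmersion (Sigma.ι (fun x => (Y x).left) x))
      let W := t.left ⁻¹ᵁ ιx.opensRange
      have hr : Set.range (W.ι ≫ t.left) ⊆ Set.range ιx := by
        rintro _ ⟨w, rfl⟩
        exact w.2
      let t' : opnOb Z W ⟶ (Over.map f).obj (Y x) := Over.homMk (IsOpenImmersion.lift ιx (W.ι ≫ t.left) hr) (by
        show _ ≫ (Y x).hom ≫ f = W.ι ≫ Z.hom
        rw [show (Y x).hom ≫ f = ιx ≫ C.hom from (Sigma.ι_desc (fun x => (Y x).hom ≫ f) x).symm,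
          IsOpenImmersion.lift_fac_assoc, Category.assoc, Over.w t])
      have hfac : t'.left ≫ ιx = W.ι ≫ t.left := IsOpenImmersion.lift_fac _ _ _
      refine ⟨W, x, t', ⟨y, (sigmaMk_mk (fun x => (Y x).left) x y).symm.trans hy⟩, Over.OverMorphism.ext ?_,
        Over.OverMorphism.ext ?_⟩
      · show t'.left ≫ (Y x).hom = W.ι ≫ t.left ≫ Limits.Sigma.desc _
        rw [← Category.assoc, ← hfac, Category.assoc]
        exact congrArg (t'.left ≫ ·) (Sigma.ι_desc (fun x => (Y x).hom) x).symm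
      · show t'.left ≫ (b x).left = W.ι ≫ t.left ≫ Limits.Sigma.desc _
        rw [← Category.assoc, ← hfac, Category.assoc]
        exact congrArg (t'.left ≫ ·) (Sigma.ι_desc (fun x => (b x).left) x).symm
    choose W x t' hz h1 h2 using hloc
    constructor
    · intro h
      refine D.pts_of_local _ _ fun z => ⟨W z, hz z, ?_⟩
      rw [← h2 z, ← hb, h1 z]
      exact kPts_comp h _
    · rintro ⟨k, hk₁, hk₂⟩
      refine kPts_of_local _ _ _ fun z => ⟨W z, hz z, ?_⟩
      rw [← h1 z, hb, h2 z]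
      exact ⟨opnIncl Z (W z) ≫ k, by rw [Category.assoc, hk₁], by rw [Category.assoc, hk₂]⟩
  haveI : Groth.Pi1Desc.IsCover cT.left := inferInstance
  haveI := Groth.Pi1Desc.IsCover.effectiveEpi cT.left
  have hpair : ∀ {W : Scheme.{u}} (g₁ g₂ : W ⟶ C.left), g₁ ≫ cT.left = g₂ ≫ cT.left →
      g₁ ≫ (aT ≫ X.q).left = g₂ ≫ (aT ≫ X.q).left := by
    intro W g₁ g₂ h
    let Z : Over S := Over.mk (g₁ ≫ C.hom)
    let u₁ : Z ⟶ C := Over.homMk g₁ rfl
    let u₂ : Z ⟶ C := Over.homMk g₂ (by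
      show g₂ ≫ C.hom = g₁ ≫ C.hom
      rw [← Over.w cT, ← Category.assoc, ← h, Category.assoc])
    have hu : u₁ ≫ cT = u₂ ≫ cT := Over.OverMorphism.ext h
    have hs : D.Same (u₁ ≫ aT) (u₂ ≫ aT) := fun V t g => by
      rw [← Category.assoc, ← Category.assoc, ← hrel, ← hrel, Category.assoc, Category.assoc, hu]
    have := congrArg CommaMorphism.left (X.eq_of_same hs)
    simpa [u₁, u₂] using this
  let v : Over.mk f ⟶ X.M := Over.homMk (EffectiveEpi.desc cT.left (aT ≫ X.q).left hpair) (by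
    haveI : Epi cT.left := Flat.epi_of_flat_of_surjective cT.left
    show _ ≫ X.M.hom = f
    rw [← cancel_epi cT.left, EffectiveEpi.fac_assoc, Over.w (aT ≫ X.q)]
    exact (Over.w cT).symm)
  have hv : cT ≫ v = aT ≫ X.q := Over.OverMorphism.ext (EffectiveEpi.fac cT.left (aT ≫ X.q).left hpair)
  have hv' : ∀ (Z : Over S) (t : Z ⟶ Over.mk f) (g : Z ⟶ G),
      KPts (subIncl f j') t g ↔ KPts X.jK (t ≫ v) g := by
    intro Z t g
    haveI : Etale (pullback.fst t.left cT.left) := MorphismProperty.pullback_fst _ _ inferInstance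
    haveI : Surjective (pullback.fst t.left cT.left) := MorphismProperty.pullback_fst _ _ inferInstance
    let Z' : Over S := Over.mk (pullback.fst t.left cT.left ≫ Z.hom)
    let c : Z' ⟶ Z := Over.homMk (pullback.fst t.left cT.left) rfl
    haveI : Groth.Pi1Desc.IsCover c.left :=
      inferInstanceAs (Groth.Pi1Desc.IsCover (pullback.fst t.left cT.left))
    let s : Z' ⟶ C := Over.homMk (pullback.snd t.left cT.left) (by
      show _ = pullback.fst t.left cT.left ≫ Z.hom
      rw [← Over.w cT, ← Category.assoc, ← pullback.condition, Category.assoc, Over.w t])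
    have hs : s ≫ cT = c ≫ t := Over.OverMorphism.ext pullback.condition.symm
    have h1 : KPts (subIncl f j') (c ≫ t) (c ≫ g) ↔ KPts X.jK (c ≫ t ≫ v) (c ≫ g) := by
      rw [← Category.assoc c t v, ← hs, hrel, Category.assoc, hv, ← Category.assoc, X.pts]
    constructor
    · intro h
      exact kPts_descend X.jK c _ _ (h1.1 (kPts_comp h c))
    · intro h
      exact kPts_descend (subIncl f j') c _ _ (h1.2 (kPts_comp h c))
  refine ⟨v, hv', fun w hw => ?_⟩
  obtain ⟨Z, c, a, hc, hce, ha⟩ := X.exists_lift w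
  obtain ⟨Z', c', a', hc', hce', ha'⟩ := X.exists_lift (c ≫ v)
  have hs : D.Same (c' ≫ a) a' := fun V t g => by
    rw [← X.pts, ← X.pts]
    simp only [Category.assoc, ha, ha']
    simpa only [Category.assoc] using (hw V (t ≫ c' ≫ c) g).symm.trans (hv' V (t ≫ c' ≫ c) g)
  have h1 := X.eq_of_same hs
  rw [Category.assoc, ha, ha'] at h1
  have h2 := congrArg CommaMorphism.left h1
  simp only [Over.comp_left] at h2
  exact Over.OverMorphism.ext ((cancel_epi c.left).1 ((cancel_epi c'.left).1 h2))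

end Model

end Groth.Misc15.MTSub
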