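import Groth.Agent.Misc15.HomMT.Main
import Groth.Agent.Reductive.MonoLocus
import Groth.Agent.Reductive.SubgroupEq
import Groth.Agent.Reductive.MTConjLocal

/-!
The schemes of monomorphisms from a diagonalisable group of finite type to a smooth affine group.
-/

set_option autoImplicit false
set_option linter.style.haveILetI false
universe u

open CategoryTheory CategoryTheory.Limits MonoidalCategory CartesianMonoidalCategory MonObj AlgebraicGeometry
open Groth.Reductive Groth.Reductive.MTInt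

noncomputable section

namespace Groth.Misc15.MTSub

variable {S : Scheme.{u}}

/-- A presentation of a finitely generated commutative group. -/
structure Idx : Type u where
  /-- number of generators -/
  r : ℕ
  /-- relations -/
  L : AddSubgroup (Fin r → ℤ)

/-- The group of a presentation. -/
def Idx.Λ (i : Idx.{u}) : Type := (Fin i.r → ℤ) ⧸ i.L

instance instAddCommGroupΛ (i : Idx.{u}) : AddCommGroup i.Λ :=
  inferInstanceAs (AddCommGroup ((Fin i.r → ℤ) ⧸ i.L))

instance (i : Idx.{u}) : AddGroup.FG i.Λ :=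
  (AddGroup.fg_of_surjective (hf := QuotientAddGroup.mk'_surjective i.L) :
    AddGroup.FG ((Fin i.r → ℤ) ⧸ i.L))

theorem exists_idx (M : Type) [AddCommGroup M] [AddGroup.FG M] : ∃ i : Idx.{u}, Nonempty (i.Λ ≃+ M) := by
  haveI : Module.Finite ℤ M := Module.Finite.iff_addGroup_fg.mpr inferInstance
  obtain ⟨r, f, hf⟩ := Module.Finite.exists_fin' ℤ M
  exact ⟨⟨r, f.toAddMonoidHom.ker⟩, ⟨QuotientAddGroup.quotientKerEquivOfSurjective f.toAddMonoidHom hf⟩⟩

/-- The standard trivialisation of a diagonalisable group. -/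
def dsTriv (M : Type) [AddCommGroup M] (Y : Over S) : Triv (Red.DS S M) Y where
  M := M
  val {Z} _ := dsValEquiv M Z
  nat g _ h := MonoidHom.ext fun m => dsVal_comp g h m

theorem locTriv_DS' (M : Type) [AddCommGroup M] [AddGroup.FG M] : LocTriv (Red.DS S M) :=
  locTriv_of_multTypeFT (Groth.Reductive.FreeDiag.isMultTypeFT_DS inferInstance)

/-- The map of diagonalisable groups of a map of groups. -/
def dsHom (S : Scheme.{u}) {M N : Type} [AddCommGroup M] [AddCommGroup N] (f : N →+ M) :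
    Red.DS S M ⟶ Red.DS S N :=
  dsMk (Red.DS S M) ((dsValHom (𝟙 (Red.DS S M))).comp (AddMonoidHom.toMultiplicative f))

theorem dsVal_comp_dsHom {M N : Type} [AddCommGroup M] [AddCommGroup N] (f : N →+ M) {Z : Over S}
    (h : Z ⟶ Red.DS S M) (n : Multiplicative N) :
    dsVal (h ≫ dsHom S f) n = dsVal h (AddMonoidHom.toMultiplicative f n) := by
  rw [dsVal_comp, dsHom, dsVal_dsMk]
  show h.left.appTop (dsVal (𝟙 _) _) = _
  rw [← dsVal_comp, Category.comp_id]

theorem dsHom_mul {M N : Type} [AddCommGroup M] [AddCommGroup N] (f : N →+ M) {Z : Over S}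
    (a b : Z ⟶ Red.DS S M) : (a * b) ≫ dsHom S f = (a ≫ dsHom S f) * (b ≫ dsHom S f) :=
  dsVal_ext fun n => by rw [dsVal_mul, dsVal_comp_dsHom, dsVal_comp_dsHom, dsVal_comp_dsHom, dsVal_mul]

theorem dsHom_comp_dsHom {M N K : Type} [AddCommGroup M] [AddCommGroup N] [AddCommGroup K] (f : N →+ M)
    (g : K →+ N) : dsHom S f ≫ dsHom S g = dsHom S (f.comp g) :=
  dsVal_ext fun n => by
    rw [dsVal_comp_dsHom, ← Category.comp_id (dsHom S (f.comp g))]
    conv_lhs => rw [← Category.id_comp (dsHom S f), dsVal_comp_dsHom]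
    rw [Category.comp_id, ← Category.id_comp (dsHom S (f.comp g)), dsVal_comp_dsHom]
    rfl

theorem dsHom_id (M : Type) [AddCommGroup M] : dsHom S (AddMonoidHom.id M) = 𝟙 (Red.DS S M) :=
  dsVal_ext fun n => by
    rw [← Category.id_comp (dsHom S (AddMonoidHom.id M)), dsVal_comp_dsHom]
    rfl

section Family

variable {H G : Over S} [GrpObj H] [GrpObj G] {X : Over S}

/-- A family has trivial kernel. -/
def InjF (φ : H ⊗ X ⟶ G) : Prop :=
  ∀ (W : Over S) (t : W ⟶ X) (h : W ⟶ H), lift h t ≫ φ = 1 → h = 1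

theorem InjF.comp {φ : H ⊗ X ⟶ G} (hi : InjF φ) {X' : Over S} (a : X' ⟶ X) : InjF ((H ◁ a) ≫ φ) :=
  fun W t h e => hi W (t ≫ a) h (by rwa [lift_whiskerLeft_assoc] at e)

theorem InjF.eq {φ : H ⊗ X ⟶ G} (hi : InjF φ) (hφ : AutFam.IsHomFamily H G φ) {W : Over S} (t : W ⟶ X)
    {h h' : W ⟶ H} (e : lift h t ≫ φ = lift h' t ≫ φ) : h = h' := by
  have h1 := hφ W (h * h'⁻¹) h' t
  rw [inv_mul_cancel_right, e] at h1
  exact mul_inv_eq_one.1 (hi W t _ (right_eq_mul.1 h1))

theorem isHomFamily_whisker {φ : H ⊗ X ⟶ G} (hφ : AutFam.IsHomFamily H G φ) {X' : Over S} (a : X' ⟶ X) :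
    AutFam.IsHomFamily H G ((H ◁ a) ≫ φ) := fun W h h' t => by
  simp only [lift_whiskerLeft_assoc]
  exact hφ W h h' (t ≫ a)

/-- The structure map as a morphism over the base. -/
abbrev pr (X : Over S) (W : Over X.left) : (Over.map X.hom).obj W ⟶ X := Over.homMk W.hom rfl

/-- The homomorphism over the parameter scheme of a family. -/
def uOf (φ : H ⊗ X ⟶ G) : Red.bc X.hom H ⟶ Red.bc X.hom G :=
  (bcPointEquiv X.hom G _).symm
    (lift (bcPointEquiv X.hom H _ (𝟙 (Red.bc X.hom H))) (pr X _) ≫ φ)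

theorem pt_uOf (φ : H ⊗ X ⟶ G) {W : Over X.left} (h : W ⟶ Red.bc X.hom H) :
    bcPointEquiv X.hom G W (h ≫ uOf φ) = lift (bcPointEquiv X.hom H W h) (pr X W) ≫ φ := by
  rw [bcPointEquiv_comp, uOf, MulEquiv.apply_symm_apply, comp_lift_assoc, ← bcPointEquiv_comp,
    Category.comp_id]
  congr 2
  exact Over.OverMorphism.ext (Over.w h)

theorem isMonHom_uOf {φ : H ⊗ X ⟶ G} (hφ : AutFam.IsHomFamily H G φ) : IsMonHom (uOf φ) :=
  Groth.AlgGrp1.isMonHom_of_points _ fun W a b => by
    apply (bcPointEquiv X.hom G W).injective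
    rw [map_mul, pt_uOf, pt_uOf, pt_uOf, map_mul]
    exact hφ _ _ _ _

/-- Every morphism to `X` comes from an object over `X.left`. -/
theorem exists_over_pr {W : Over S} (t : W ⟶ X) :
    ∃ (c : (Over.map X.hom).obj (Over.mk t.left) ≅ W), c.hom ≫ t = pr X (Over.mk t.left) :=
  ⟨Over.isoMk (Iso.refl _) (by
      show 𝟙 _ ≫ W.hom = t.left ≫ X.hom
      rw [Category.id_comp, Over.w t]), Over.OverMorphism.ext (Category.id_comp _)⟩

theorem mono_uOf {φ : H ⊗ X ⟶ G} (hφ : AutFam.IsHomFamily H G φ) (hi : InjF φ) : Mono (uOf φ) :=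
  ⟨fun {W} a b e => (bcPointEquiv X.hom H W).injective (hi.eq hφ (pr X W) (by
    rw [← pt_uOf, ← pt_uOf, e]))⟩

theorem isClosedImmersion_uOf (hH : LocTriv H) (hG : IsAffineHom G.hom) {φ : H ⊗ X ⟶ G}
    (hφ : AutFam.IsHomFamily H G φ) (hi : InjF φ) : IsClosedImmersion (uOf φ).left := by
  haveI := isMonHom_uOf hφ
  haveI := mono_uOf hφ hi
  exact isClosedImmersion_of_mono (Groth.Misc15.HomMT.locTriv_bc X.hom hH)
    (MorphismProperty.pullback_snd (P := @IsAffineHom) _ _ hG) (uOf φ)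

open Groth.Reductive.FreeDiag in
theorem kerTriv_uOf_iff (φ : H ⊗ X ⟶ G) (W : Over X.left) :
    KerTriv (uOf φ) W ↔ InjF ((H ◁ pr X W) ≫ φ) := by
  constructor
  · intro hk V t h e
    obtain ⟨c, hc⟩ := exists_over_pr (X := X) (t ≫ pr X W)
    let x := (bcPointEquiv X.hom H (Over.mk (t ≫ pr X W).left)).symm (c.hom ≫ h)
    have hx : x ≫ uOf φ = 1 := by
      apply (bcPointEquiv X.hom G _).injective
      rw [pt_uOf, MulEquiv.apply_symm_apply, map_one, ← hc, ← comp_lift_assoc]
      rw [lift_whiskerLeft_assoc] at e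
      rw [e, MonObj.comp_one]
    have h1 : x = 1 := hk _ (Over.homMk t.left rfl) x hx
    have h2 : c.hom ≫ h = 1 := by
      rw [← MulEquiv.apply_symm_apply (bcPointEquiv X.hom H _) (c.hom ≫ h)]
      exact (congrArg _ h1).trans (map_one _)
    rw [← Category.id_comp h, ← c.inv_hom_id, Category.assoc, h2, MonObj.comp_one]
  · intro hi V w x hx
    apply (bcPointEquiv X.hom H V).injective
    rw [map_one]
    refine hi _ ((Over.map X.hom).map w) _ ?_
    rw [lift_whiskerLeft_assoc, show (Over.map X.hom).map w ≫ pr X W = pr X V from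
      Over.OverMorphism.ext (Over.w w), ← pt_uOf, hx, map_one]

end Family

/-- The monomorphisms from a diagonalisable group of finite type are parametrised by a smooth separated
scheme. -/
theorem exists_piece (G : Over S) [GrpObj G] (hG : Smooth G.hom) (hGa : IsAffineHom G.hom) (M : Type)
    [AddCommGroup M] [AddGroup.FG M] :
    ∃ (P : Over S) (υ : Red.DS S M ⊗ P ⟶ G), Smooth P.hom ∧ IsSeparated P.hom ∧
      AutFam.IsHomFamily (Red.DS S M) G υ ∧ InjF υ ∧
      ∀ (X : Over S) (φ : Red.DS S M ⊗ X ⟶ G), AutFam.IsHomFamily (Red.DS S M) G φ → InjF φ →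
        ∃! a : X ⟶ P, (Red.DS S M ◁ a) ≫ υ = φ := by
  obtain ⟨A, υ, hA, hAs, hAsep⟩ := Groth.Misc15.HomMT.exists_representsHom_of_triv (G := G)
    (locTriv_DS' (S := S) M) (fun s => ⟨S, 𝟙 S, s, inferInstance, rfl, ⟨dsTriv M _⟩⟩) hG hGa
  haveI := isMonHom_uOf hA.1
  haveI : IsSeparated (Red.bc A.hom G).hom :=
    MorphismProperty.pullback_snd (P := @IsSeparated) _ _ inferInstance
  obtain ⟨U, hU, hmono⟩ := Groth.Reductive.FreeDiag.exists_open_monoLocus (u := uOf υ)
    (Groth.Reductive.FreeDiag.isMultTypeFT_bc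
      (Groth.Reductive.FreeDiag.isMultTypeFT_DS inferInstance) A.hom)
  let P : Over S := Over.mk (U.ι ≫ A.hom)
  let k : P ⟶ A := Over.homMk U.ι rfl
  haveI : Mono k := (Over.forget S).mono_of_mono_map (inferInstanceAs (Mono U.ι))
  have hk : InjF ((Red.DS S M ◁ k) ≫ υ) := by
    have h := (kerTriv_uOf_iff υ (Over.mk U.ι)).1 ((Groth.Reductive.FreeDiag.mono_map_iff U.ι).1 hmono)
    exact h
  refine ⟨P, (Red.DS S M ◁ k) ≫ υ, ?_, ?_, isHomFamily_whisker hA.1 k, hk, fun X φ hφ hi => ?_⟩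
  · show Smooth (U.ι ≫ A.hom); infer_instance
  · show IsSeparated (U.ι ≫ A.hom); infer_instance
  obtain ⟨a, ha, hau⟩ := hA.2 X φ hφ
  beta_reduce at ha hau
  have hrange : Set.range a.left ⊆ (U : Set A.left) := by
    rintro _ ⟨x, rfl⟩
    let p := X.left.fromSpecResidueField x
    let Xp : Over S := Over.mk (p ≫ X.hom)
    let jp : Xp ⟶ X := Over.homMk p rfl
    have e : (p ≫ a.left).base (IsLocalRing.closedPoint _) = a.left x := by
      rw [Scheme.Hom.comp_apply, Scheme.fromSpecResidueField_apply]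
    have h1 : InjF ((Red.DS S M ◁ (jp ≫ a)) ≫ υ) := by
      rw [whiskerLeft_comp_assoc, ha]; exact hi.comp jp
    have h2 : Mono ((Over.pullback (p ≫ a.left)).map (uOf υ)).left := by
      rw [Groth.Reductive.FreeDiag.mono_map_iff, kerTriv_uOf_iff]
      intro W t h he
      let t' : W ⟶ Xp := Over.homMk t.left (by
        show _ ≫ p ≫ X.hom = _
        have hw : t.left ≫ (p ≫ a.left) ≫ A.hom = W.hom := Over.w t
        rw [← hw, Category.assoc, Over.w a])
      refine h1 W t' h ?_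
      rw [lift_whiskerLeft_assoc] at he ⊢
      rwa [show t' ≫ jp ≫ a = t ≫ pr A (Over.mk (p ≫ a.left)) from Over.OverMorphism.ext rfl]
    show a.left x ∈ U
    rw [hU, ← e]
    exact (Groth.Reductive.FreeDiag.prop_map_fieldPoint_iff (uOf υ)
      (MorphismProperty.monomorphisms Scheme.{u}) _ (p ≫ a.left)).1 h2
  let b : X ⟶ P := Over.homMk (IsOpenImmersion.lift U.ι a.left (by rwa [Scheme.Opens.range_ι])) (by
    show _ ≫ U.ι ≫ A.hom = X.hom
    rw [IsOpenImmersion.lift_fac_assoc, Over.w a])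
  have hb : b ≫ k = a := Over.OverMorphism.ext (IsOpenImmersion.lift_fac _ _ _)
  refine ⟨b, by beta_reduce; rw [← whiskerLeft_comp_assoc, hb, ha], fun c hc => ?_⟩
  rw [← cancel_mono k, hb]
  exact hau _ (by rw [whiskerLeft_comp_assoc]; exact hc)

end Groth.Misc15.MTSub
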