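import Groth.Agent.AlgSpBasic.SepLQFScheme
import Groth.Agent.AlgSpBasic.Quotient

/-!
Quotients of schemes by étale equivalence relations with closed graph and locally quasi-finite
invariants.
-/

set_option autoImplicit false
set_option backward.isDefEq.respectTransparency.types false
universe u

open CategoryTheory CategoryTheory.Limits AlgebraicGeometry Opposite AlgSp MonoidalCategory
  CartesianMonoidalCategory

noncomputable section

namespace Groth.Misc15.MTSub

open Groth.AlgSpBasic

variable {S : Scheme.{u}} {R U : Over S}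

/-- An open subscheme as an object over the base. -/
abbrev opnOb (U : Over S) (W : U.left.Opens) : Over S := Over.mk (W.ι ≫ U.hom)

/-- Its inclusion. -/
abbrev opnIncl (U : Over S) (W : U.left.Opens) : opnOb U W ⟶ U := Over.homMk W.ι rfl

/-- An étale equivalence relation with closed graph that has, near every point, an invariant which is
locally quasi-finite on an affine neighbourhood, has a scheme as quotient. -/
theorem exists_etale_quotient (t s : R ⟶ U) (h : IsEqvRel s t) [Etale t.left] [Etale s.left]
    [IsClosedImmersion (lift t s).left]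
    (hloc : ∀ u : U.left, ∃ (W : U.left.Opens) (T : Over S) (π₀ : opnOb U W ⟶ T), u ∈ W ∧
      IsAffineOpen W ∧ IsAffine T.left ∧ LocallyQuasiFinite π₀.left ∧ LocallyOfFiniteType π₀.left ∧
      ∀ (Z : Over S) (r : Z ⟶ R) (a b : Z ⟶ opnOb U W),
        a ≫ opnIncl U W = r ≫ t → b ≫ opnIncl U W = r ≫ s → a ≫ π₀ = b ≫ π₀) :
    ∃ (M : Over S) (q : U ⟶ M), Etale q.left ∧ Surjective q.left ∧ IsPullback t s q q := by
  have sq := isPullback_yonQuot h
  have := isLocallySurjective_yonQuotπ s t
  obtain ⟨hX, hp, hps⟩ := isAlgSpace_of_kernelPair sq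
  let X := QuotSh.quot Scheme.fppfPrecoverage s t
  let p : (yon S).obj U ⟶ X := yonQuotπ s t
  change IsPullback ((yon S).map t) ((yon S).map s) p p at sq
  change RepWith @Etale p at hp
  change RepWith @Surjective p at hps
  have main : ∀ u : ↥U.left, ∃ (G : Over S) (g : (yon S).obj G ⟶ X),
      RepWith @IsOpenImmersion g ∧ Points.ofPt p u ∈ Set.range (Points.ofPt g) := by
    intro u
    obtain ⟨W, T, π', huW, hW, hT, hqf, hft, hinv⟩ := hloc u
    let WO : Over S := opnOb U W
    let jW : WO ⟶ U := opnIncl U W
    let a := (yon S).map jW ≫ p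
    have : Etale jW.left := inferInstanceAs (Etale W.ι)
    have : IsOpenImmersion jW.left := inferInstanceAs (IsOpenImmersion W.ι)
    have hae : RepWith @Etale a := repWith_comp ((repWith_yon_map_iff _ jW).2 ‹_›) hp
    let Y := openSub X (Set.range (Points.ofPt a))
    have hopen : IsOpen (Set.range (Points.ofPt a)) := (isOpenMap_ofPt_of_etale hae).isOpen_range
    have hι : RepWith @IsOpenImmersion (openSubι X (Set.range (Points.ofPt a))) :=
      repWith_openSubι hopen
    have : Mono (openSubι X (Set.range (Points.ofPt a))) :=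
      mono_of_repWith (fun _ _ g (_ : IsOpenImmersion g) => inferInstance) hι
    obtain ⟨pY, hpY⟩ := (openSub_exists_lift_iff X (Set.range (Points.ofPt a)) a).2
      fun w => ⟨w, rfl⟩
    have hpYe : RepWith @Etale pY := by
      refine repWith_of_isPullback (a := 𝟙 _) (b := openSubι X _) ?_ hae
      refine ⟨⟨by rw [Category.id_comp, hpY]⟩, ⟨PullbackCone.IsLimit.mk _ (fun c => c.fst)
        (fun c => Category.comp_id _) (fun c => ?_)
        (fun c m h₁ _ => (Category.comp_id m).symm.trans h₁)⟩⟩
      rw [← cancel_mono (openSubι X (Set.range (Points.ofPt a))), Category.assoc, hpY]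
      exact c.condition
    have hpYs : RepWith @Surjective pY := by
      refine repWith_surjective_of_ofPt hpYe.rep fun y => ?_
      obtain ⟨T₁, g₁, t₁, rfl⟩ := exists_ofPt y
      obtain ⟨w, hw⟩ := (openSub_exists_lift_iff X (Set.range (Points.ofPt a))
        (g₁ ≫ openSubι X _)).1 ⟨g₁, rfl⟩ t₁
      obtain ⟨V, fst', snd', sqV⟩ := exists_pullback_yon hpYe.rep g₁
      refine ⟨w, (ofPt_eq_ofPt_iff sqV _ _).2 ?_⟩
      have := isPullback_comp_mono (openSubι X (Set.range (Points.ofPt a))) sqV
      rw [hpY] at this
      exact (ofPt_eq_ofPt_iff this _ _).1 hw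
    obtain ⟨R', t', s', sqR⟩ := exists_pullback_yon hpYe.rep pY
    have sqa := isPullback_comp_mono (openSubι X (Set.range (Points.ofPt a))) sqR
    rw [hpY] at sqa
    obtain ⟨r, hr⟩ := (yon S).map_surjective (sq.lift ((yon S).map (t' ≫ jW)) ((yon S).map (s' ≫ jW))
      (by simpa [a] using sqa.w))
    have hr₁ : r ≫ t = t' ≫ jW := (yon S).map_injective (by
      rw [Functor.map_comp, hr, sq.lift_fst])
    have hr₂ : r ≫ s = s' ≫ jW := (yon S).map_injective (by
      rw [Functor.map_comp, hr, sq.lift_snd])
    have w' : t'.left ≫ π'.left = s'.left ≫ π'.left :=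
      congrArg CommaMorphism.left (hinv R' r t' s' hr₁.symm hr₂.symm)
    -- the graph is closed
    let jj : WO ⊗ WO ⟶ U ⊗ U := lift (fst WO WO ≫ jW) (snd WO WO ≫ jW)
    have hw : r ≫ lift t s = lift t' s' ≫ jj := by
      ext1 <;> simp [jj, hr₁, hr₂]
    haveI : Mono jW := (Over.forget S).mono_of_mono_map (inferInstanceAs (Mono jW.left))
    have hpb : IsPullback r (lift t' s') (lift t s) jj := by
      refine ⟨⟨hw⟩, ⟨?_⟩⟩
      have key : ∀ c : PullbackCone (lift t s) jj, ∃ z : c.pt ⟶ R', z ≫ t' = c.snd ≫ fst WO WO ∧
          z ≫ s' = c.snd ≫ snd WO WO := fun c => by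
        have e1 : c.fst ≫ t = c.snd ≫ fst WO WO ≫ jW := by
          simpa [jj] using congrArg (· ≫ fst U U) c.condition
        have e2 : c.fst ≫ s = c.snd ≫ snd WO WO ≫ jW := by
          simpa [jj] using congrArg (· ≫ snd U U) c.condition
        obtain ⟨z, hz⟩ := (yon S).map_surjective (sqa.lift ((yon S).map (c.snd ≫ fst WO WO))
          ((yon S).map (c.snd ≫ snd WO WO)) (by
            simp only [a, ← Category.assoc, ← Functor.map_comp]
            simp only [Category.assoc, ← e1, ← e2, Functor.map_comp, sq.w]))
        exact ⟨z, (yon S).map_injective (by rw [Functor.map_comp, hz, sqa.lift_fst]),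
          (yon S).map_injective (by rw [Functor.map_comp, hz, sqa.lift_snd])⟩
      refine PullbackCone.IsLimit.mk _ (fun c => (key c).choose) (fun c => ?_) (fun c => ?_)
        (fun c m _ h₂ => ?_)
      · refine (yon S).map_injective (sq.hom_ext ?_ ?_)
        · rw [← Functor.map_comp, ← Functor.map_comp, Category.assoc, hr₁,
            reassoc_of% (key c).choose_spec.1]
          exact congrArg _ (by simpa [jj] using (congrArg (· ≫ fst U U) c.condition).symm)
        · rw [← Functor.map_comp, ← Functor.map_comp, Category.assoc, hr₂,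
            reassoc_of% (key c).choose_spec.2]
          exact congrArg _ (by simpa [jj] using (congrArg (· ≫ snd U U) c.condition).symm)
      · ext1
        · simp [(key c).choose_spec.1]
        · simp [(key c).choose_spec.2]
      · refine (yon S).map_injective (sqa.hom_ext ?_ ?_)
        · rw [← Functor.map_comp, ← Functor.map_comp, (key c).choose_spec.1, ← h₂]
          simp
        · rw [← Functor.map_comp, ← Functor.map_comp, (key c).choose_spec.2, ← h₂]
          simp
    haveI hcl : IsClosedImmersion (lift t' s').left :=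
      MorphismProperty.of_isPullback (P := @IsClosedImmersion) (hpb.map (Over.forget S))
        (inferInstanceAs (IsClosedImmersion (lift t s).left))
    haveI : IsAffine WO.left := hW
    haveI := hT
    haveI := hqf
    haveI := hft
    have : IsClosedImmersion (pullback.lift t'.left s'.left w') := by
      let c : pullback π'.left π'.left ⟶ (WO ⊗ WO).left :=
        pullback.lift (pullback.fst _ _) (pullback.snd _ _) (by
          rw [← Over.w π', ← Category.assoc, pullback.condition, Category.assoc])
      have e : pullback.lift t'.left s'.left w' ≫ c = (lift t' s').left := by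
        apply pullback.hom_ext
        · rw [Category.assoc, pullback.lift_fst, pullback.lift_fst]
          exact (congrArg CommaMorphism.left (lift_fst t' s')).symm
        · rw [Category.assoc, pullback.lift_snd, pullback.lift_snd]
          exact (congrArg CommaMorphism.left (lift_snd t' s')).symm
      have : IsClosedImmersion (pullback.lift t'.left s'.left w' ≫ c) := e ▸ hcl
      have : IsSeparated c := by
        have : IsSeparated (c ≫ pullback.fst WO.hom WO.hom) := by
          show IsSeparated (pullback.lift _ _ _ ≫ pullback.fst WO.hom WO.hom)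
          rw [pullback.lift_fst]; infer_instance
        exact IsSeparated.of_comp c (pullback.fst WO.hom WO.hom)
      exact IsClosedImmersion.of_comp _ c
    obtain ⟨G, ⟨e⟩⟩ := exists_iso_of_sepLQF_chart hpYe hpYs sqR w'
    refine ⟨G, e.hom ≫ openSubι X _, repWith_comp (repWith_isIso _) hι, ?_⟩
    obtain ⟨l, hl⟩ := (yon S).map_surjective (pY ≫ e.inv)
    refine ⟨l.left ⟨u, huW⟩, ?_⟩
    rw [← ofPt_comp_yon, hl, Category.assoc, Iso.inv_hom_id_assoc, hpY, ofPt_comp_yon]
    rfl
  choose G g hg hgu using main
  obtain ⟨M, ⟨e⟩⟩ := exists_iso_yon_of_openImmersions hg fun T₁ g₁ t₁ => by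
    obtain ⟨u, hu⟩ := surjective_ofPt_of_repWith hps (Points.ofPt g₁ t₁)
    obtain ⟨V, fst', snd', sqV⟩ := exists_pullback_yon (hg u).rep g₁
    refine ⟨u, V, (yon S).map fst', snd', sqV, ?_⟩
    obtain ⟨z, hz⟩ := hgu u
    obtain ⟨x, -, hx⟩ := (ofPt_eq_ofPt_iff sqV z t₁).mp (hz.trans hu)
    exact ⟨x, hx⟩
  obtain ⟨q, hq⟩ := (yon S).map_surjective (p ≫ e.inv)
  refine ⟨M, q, (repWith_yon_map_iff _ q).1 (by rw [hq]; exact repWith_comp hp (repWith_isIso _)),
    (repWith_yon_map_iff _ q).1 (by rw [hq]; exact repWith_comp hps (repWith_isIso _)), ?_⟩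
  refine IsPullback.of_map (yon S) ((yon S).map_injective ?_) ?_
  · rw [Functor.map_comp, Functor.map_comp, hq, reassoc_of% sq.w]
  · rw [hq]
    exact isPullback_comp_mono e.inv sq

end Groth.Misc15.MTSub
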