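import Groth.Agent.Misc15.MTSub.Piece
import Groth.Agent.Misc15.MTSub.Quot
import Groth.Agent.Pi1Desc.Family

/-!
The disjoint union of the schemes of monomorphisms and its tautological family of subgroups.
-/

set_option autoImplicit false
set_option linter.style.haveILetI false
universe u

open CategoryTheory CategoryTheory.Limits MonoidalCategory CartesianMonoidalCategory MonObj AlgebraicGeometry

noncomputable section

namespace Groth.Misc15.MTSub

variable {S : Scheme.{u}}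

/-- Image of a family, on points. -/
def Img {H G X : Over S} (φ : H ⊗ X ⟶ G) {W : Over S} (t : W ⟶ X) (g : W ⟶ G) : Prop :=
  ∃ h : W ⟶ H, lift h t ≫ φ = g

theorem img_whisker_iff {H G X X' : Over S} (φ : H ⊗ X ⟶ G) (a : X' ⟶ X) {W : Over S} (t : W ⟶ X')
    (g : W ⟶ G) : Img ((H ◁ a) ≫ φ) t g ↔ Img φ (t ≫ a) g := by
  simp only [Img, lift_whiskerLeft_assoc]

/-- The schemes of monomorphisms from the diagonalisable groups of the admissible types, with their
universal families; the others are empty. -/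
structure Pieces (G : Over S) [GrpObj G] where
  /-- the scheme -/
  P : Idx.{u} → Over S
  /-- the family -/
  υ : ∀ i : Idx.{u}, Red.DS S i.Λ ⊗ P i ⟶ G
  lft : ∀ i : Idx.{u}, LocallyOfFiniteType (P i).hom
  sep : ∀ i : Idx.{u}, IsSeparated (P i).hom
  hom : ∀ i : Idx.{u}, AutFam.IsHomFamily (Red.DS S i.Λ) G (υ i)
  inj : ∀ i : Idx.{u}, InjF (υ i)
  /-- the admissible types -/
  Ok : Idx.{u} → Prop
  ok_of_equiv : ∀ i k : Idx.{u}, (k.Λ ≃+ i.Λ) → Ok k → Ok i
  ok_of_nonempty : ∀ i : Idx.{u}, Nonempty (P i).left → Ok i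
  classify : ∀ i : Idx.{u}, Ok i → ∀ (X : Over S) (φ : Red.DS S i.Λ ⊗ X ⟶ G),
    AutFam.IsHomFamily (Red.DS S i.Λ) G φ → InjF φ → ∃! a : X ⟶ P i, (Red.DS S i.Λ ◁ a) ≫ υ i = φ

theorem exists_pieces (G : Over S) [GrpObj G] (hG : Smooth G.hom) (hGa : IsAffineHom G.hom) :
    ∃ D : Pieces G, (∀ i : Idx.{u}, D.Ok i) ∧ ∀ i : Idx.{u}, Smooth (D.P i).hom := by
  choose P υ h1 h2 h3 h4 h5 using fun i : Idx.{u} => exists_piece G hG hGa i.Λ
  exact ⟨⟨P, υ, fun i => by haveI := h1 i; infer_instance, h2, h3, h4, fun _ => True, fun _ _ _ h => h,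
    fun _ _ => trivial, fun i _ => h5 i⟩, fun _ => trivial, h1⟩

variable {G : Over S} [GrpObj G] (D : Pieces G)

namespace Pieces

/-- The group of an index. -/
abbrev H (_ : Pieces G) (i : Idx.{u}) : Over S := Red.DS S i.Λ

theorem eq_of_family {i : Idx.{u}} {X : Over S} {a b : X ⟶ D.P i}
    (h : (D.H i ◁ a) ≫ D.υ i = (D.H i ◁ b) ≫ D.υ i) : a = b := by
  obtain hX | ⟨⟨x⟩⟩ := isEmpty_or_nonempty X.left
  · exact Over.OverMorphism.ext ((isInitialOfIsEmpty (X := X.left)).hom_ext _ _)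
  · exact (D.classify i (D.ok_of_nonempty i ⟨a.left x⟩) X _ (isHomFamily_whisker (D.hom i) b)
      ((D.inj i).comp b)).unique h rfl

/-- The parameter scheme. -/
def U : Over S := Over.mk (Limits.Sigma.desc fun i => (D.P i).hom)

/-- The inclusion of a piece. -/
def inc (i : Idx.{u}) : D.P i ⟶ D.U :=
  Over.homMk (Sigma.ι (fun i => (D.P i).left) i) (Sigma.ι_desc _ _)

instance (i : Idx.{u}) : IsOpenImmersion (D.inc i).left :=
  inferInstanceAs (IsOpenImmersion (Sigma.ι (fun i => (D.P i).left) i))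

instance (i : Idx.{u}) : Mono (D.inc i) :=
  (Over.forget S).mono_of_mono_map (inferInstanceAs (Mono (Sigma.ι (fun i => (D.P i).left) i)))

theorem smooth_U (hs : ∀ i : Idx.{u}, Smooth (D.P i).hom) : Smooth D.U.hom :=
  IsZariskiLocalAtSource.sigmaDesc fun i => hs i

theorem inc_surjective (x : D.U.left) : ∃ (i : Idx.{u}) (y : (D.P i).left), (D.inc i).left y = x := by
  obtain ⟨⟨i, y⟩, rfl⟩ := (sigmaMk (fun i => (D.P i).left)).surjective x
  exact ⟨i, y, (sigmaMk_mk (fun i => (D.P i).left) i y).symm⟩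

theorem idx_eq {X : Over S} [Nonempty X.left] {i k : Idx.{u}} {a : X ⟶ D.P i} {b : X ⟶ D.P k}
    (h : a ≫ D.inc i = b ≫ D.inc k) : i = k := by
  by_contra hne
  exact (isEmpty_of_commSq_sigmaι_of_ne ⟨congrArg CommaMorphism.left h⟩ hne).false
    (Classical.arbitrary X.left)

/-- The total space of the tautological family. -/
def KU : Over S := Over.mk (Limits.Sigma.desc fun i => (D.H i ⊗ D.P i).hom)

/-- Its projection. -/
def qU : D.KU ⟶ D.U :=
  Over.homMk (Limits.Sigma.map fun i => (snd (D.H i) (D.P i)).left) (by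
    show Limits.Sigma.map _ ≫ Limits.Sigma.desc _ = Limits.Sigma.desc _
    refine Sigma.hom_ext _ _ fun i => ?_
    rw [Sigma.ι_map_assoc, Sigma.ι_desc, Sigma.ι_desc]
    exact Over.w (snd (D.H i) (D.P i)))

/-- The map to the group. -/
def pU : D.KU ⟶ G :=
  Over.homMk (Limits.Sigma.desc fun i => (D.υ i).left) (by
    show Limits.Sigma.desc _ ≫ G.hom = Limits.Sigma.desc _
    refine Sigma.hom_ext _ _ fun i => ?_
    rw [Sigma.ι_desc_assoc, Sigma.ι_desc]
    exact Over.w (D.υ i))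

/-- The inclusion of a component of the family. -/
def incK (i : Idx.{u}) : D.H i ⊗ D.P i ⟶ D.KU :=
  Over.homMk (Sigma.ι (fun i => (D.H i ⊗ D.P i).left) i) (Sigma.ι_desc _ _)

theorem incK_qU (i : Idx.{u}) : D.incK i ≫ D.qU = snd _ _ ≫ D.inc i :=
  Over.OverMorphism.ext (Sigma.ι_map (fun i => (snd (D.H i) (D.P i)).left) i)

theorem incK_pU (i : Idx.{u}) : D.incK i ≫ D.pU = D.υ i :=
  Over.OverMorphism.ext (Sigma.ι_desc (fun i => (D.υ i).left) i)

theorem isPullback_incK (i : Idx.{u}) :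
    IsPullback (D.incK i) (snd (D.H i) (D.P i)) D.qU (D.inc i) :=
  IsPullback.of_map (Over.forget S) (D.incK_qU i)
    (Groth.Pi1Desc.isPullback_sigma_map (fun i => (snd (D.H i) (D.P i)).left) i)

/-- The points of the subgroup of a point of `U`. -/
def Pts {Z : Over S} (z : Z ⟶ D.U) (g : Z ⟶ G) : Prop :=
  ∃ k : Z ⟶ D.KU, k ≫ D.qU = z ∧ k ≫ D.pU = g

theorem pts_inc_iff {i : Idx.{u}} {Z : Over S} (t : Z ⟶ D.P i) (g : Z ⟶ G) :
    D.Pts (t ≫ D.inc i) g ↔ Img (D.υ i) t g := by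
  constructor
  · rintro ⟨k, hk, rfl⟩
    let l := (D.isPullback_incK i).lift k t hk
    refine ⟨l ≫ fst _ _, ?_⟩
    have e : lift (l ≫ fst _ _) t = l := by
      ext1
      · simp
      · simp [l]
    rw [e, ← D.incK_pU, ← Category.assoc]
    simp [l]
  · rintro ⟨h, rfl⟩
    exact ⟨lift h t ≫ D.incK i, by rw [Category.assoc, D.incK_qU, lift_snd_assoc],
      by rw [Category.assoc, D.incK_pU]⟩

/-- Two points give the same subgroup. -/
def Same {X : Over S} (a b : X ⟶ D.U) : Prop :=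
  ∀ (Z : Over S) (t : Z ⟶ X) (g : Z ⟶ G), D.Pts (t ≫ a) g ↔ D.Pts (t ≫ b) g

variable {D}

theorem Same.refl {X : Over S} (a : X ⟶ D.U) : D.Same a a := fun _ _ _ => Iff.rfl

theorem Same.symm {X : Over S} {a b : X ⟶ D.U} (h : D.Same a b) : D.Same b a :=
  fun Z t g => (h Z t g).symm

theorem Same.trans {X : Over S} {a b c : X ⟶ D.U} (h : D.Same a b) (h' : D.Same b c) : D.Same a c :=
  fun Z t g => (h Z t g).trans (h' Z t g)

theorem Same.comp {X X' : Over S} {a b : X ⟶ D.U} (h : D.Same a b) (c : X' ⟶ X) :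
    D.Same (c ≫ a) (c ≫ b) := fun Z t g => by
  simpa only [Category.assoc] using h Z (t ≫ c) g

theorem same_inc_iff {X : Over S} {i k : Idx.{u}} (a : X ⟶ D.P i) (b : X ⟶ D.P k) :
    D.Same (a ≫ D.inc i) (b ≫ D.inc k) ↔ ∀ (Z : Over S) (t : Z ⟶ X) (g : Z ⟶ G),
      Img ((D.H i ◁ a) ≫ D.υ i) t g ↔ Img ((D.H k ◁ b) ≫ D.υ k) t g := by
  unfold Same
  simp only [img_whisker_iff, ← D.pts_inc_iff, Category.assoc]

variable (D)

/-- Near every point a point of `U` lies in a piece. -/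
theorem exists_local {X : Over S} (a : X ⟶ D.U) (x : X.left) (O : X.left.Opens) (hO : x ∈ O) :
    ∃ (i : Idx.{u}) (W : X.left.Opens) (a' : opnOb X W ⟶ D.P i), x ∈ W ∧ IsAffineOpen W ∧ W ≤ O ∧
      a' ≫ D.inc i = opnIncl X W ≫ a := by
  obtain ⟨i, y, hy⟩ := D.inc_surjective (a.left x)
  obtain ⟨W, hW, hxW, hWle⟩ := exists_isAffineOpen_mem_and_subset
    (U := a.left ⁻¹ᵁ (D.inc i).left.opensRange ⊓ O) ⟨⟨y, hy⟩, hO⟩
  have hr : Set.range (W.ι ≫ a.left) ⊆ Set.range (D.inc i).left := by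
    rintro _ ⟨w, rfl⟩
    exact (hWle w.2).1
  let a' : opnOb X W ⟶ D.P i := Over.homMk (IsOpenImmersion.lift (D.inc i).left (W.ι ≫ a.left) hr) (by
    show _ ≫ (D.P i).hom = W.ι ≫ X.hom
    rw [← Over.w (D.inc i), IsOpenImmersion.lift_fac_assoc, Category.assoc, Over.w a])
  exact ⟨i, W, a', hxW, hW, fun w hw => (hWle hw).2,
    Over.OverMorphism.ext (IsOpenImmersion.lift_fac _ _ _)⟩

end Pieces

end Groth.Misc15.MTSub
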