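import Groth.Agent.Misc15.MTSub.Classify

/-!
Comparison of equality of points with isomorphism of subschemes.
-/

set_option autoImplicit false
set_option linter.style.haveILetI false
universe u

open CategoryTheory CategoryTheory.Limits MonoidalCategory CartesianMonoidalCategory MonObj AlgebraicGeometry
open Groth.Reductive Groth.Reductive.MTInt

noncomputable section

namespace Groth.Misc15.MTSub

section Schemes

variable {G₀ M₀ T K₀ K₁ : Scheme.{u}} (p : K₀ ⟶ G₀) (q : K₀ ⟶ M₀) (p' : K₁ ⟶ G₀) (q' : K₁ ⟶ T) (v : T ⟶ M₀)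

/-- Subschemes with the same points are isomorphic, and conversely. -/
theorem exists_iso_iff_same_pts
    (hm : ∀ {Z : Scheme.{u}} (a b : Z ⟶ K₀), a ≫ p = b ≫ p → a ≫ q = b ≫ q → a = b)
    (hm' : ∀ {Z : Scheme.{u}} (a b : Z ⟶ K₁), a ≫ p' = b ≫ p' → a ≫ q' = b ≫ q' → a = b) :
    (∃ φ : K₁ ≅ pullback q v, φ.hom ≫ pullback.snd q v = q' ∧ φ.hom ≫ pullback.fst q v ≫ p = p') ↔
      ∀ (Z : Scheme.{u}) (t : Z ⟶ T) (g : Z ⟶ G₀),
        (∃ k, k ≫ q' = t ∧ k ≫ p' = g) ↔ ∃ k, k ≫ q = t ≫ v ∧ k ≫ p = g := by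
  constructor
  · rintro ⟨φ, h₂, h₁⟩ Z t g
    constructor
    · rintro ⟨k, rfl, rfl⟩
      refine ⟨k ≫ φ.hom ≫ pullback.fst q v, ?_, ?_⟩
      · rw [Category.assoc, Category.assoc, pullback.condition, reassoc_of% h₂, Category.assoc]
      · rw [Category.assoc, Category.assoc, h₁]
    · rintro ⟨k, hk, rfl⟩
      refine ⟨pullback.lift k t hk ≫ φ.inv, ?_, ?_⟩
      · rw [← h₂, Category.assoc, φ.inv_hom_id_assoc, pullback.lift_snd]
      · rw [← h₁, Category.assoc, φ.inv_hom_id_assoc, pullback.lift_fst_assoc]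
  · intro h
    obtain ⟨a, ha₂, ha₁⟩ := (h K₁ q' p').1 ⟨𝟙 _, Category.id_comp _, Category.id_comp _⟩
    obtain ⟨b, hb₂, hb₁⟩ := (h (pullback q v) (pullback.snd q v) (pullback.fst q v ≫ p)).2
      ⟨pullback.fst q v, pullback.condition, rfl⟩
    refine ⟨⟨pullback.lift a q' ha₂, b, hm' _ _ ?_ ?_, pullback.hom_ext (hm _ _ ?_ ?_) ?_⟩,
      pullback.lift_snd _ _ _, by rw [pullback.lift_fst_assoc, ha₁]⟩
    · rw [Category.assoc, hb₁, pullback.lift_fst_assoc, ha₁, Category.id_comp]
    · rw [Category.assoc, hb₂, pullback.lift_snd, Category.id_comp]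
    · simp only [Category.assoc, Category.id_comp, pullback.lift_fst_assoc, ha₁, hb₁]
    · simp only [Category.assoc, Category.id_comp, pullback.lift_fst_assoc, pullback.lift_snd_assoc, ha₂,
        reassoc_of% hb₂, pullback.condition]
    · rw [Category.assoc, pullback.lift_snd, hb₂, Category.id_comp]

end Schemes

variable {S : Scheme.{u}} {G M K : Over S} (jK : K ⟶ G ⊗ M)

theorem kPts_iff_left {Z : Over S} (z : Z ⟶ M) (g : Z ⟶ G) :
    KPts jK z g ↔ ∃ k : Z.left ⟶ K.left, k ≫ (jK ≫ snd G M).left = z.left ∧ k ≫ (jK ≫ fst G M).left = g.left := by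
  constructor
  · rintro ⟨k, hk⟩
    refine ⟨k.left, ?_, ?_⟩
    · rw [← Over.comp_left, reassoc_of% hk, lift_snd]
    · rw [← Over.comp_left, reassoc_of% hk, lift_fst]
  · rintro ⟨k, hk₂, hk₁⟩
    refine ⟨Over.homMk k (by rw [← Over.w (jK ≫ snd G M), ← Category.assoc, hk₂]; exact Over.w z), ?_⟩
    ext1
    · rw [lift_fst, Category.assoc]
      exact Over.OverMorphism.ext hk₁
    · rw [lift_snd, Category.assoc]
      exact Over.OverMorphism.ext hk₂

theorem pts_ext {Z : Scheme.{u}} [Mono jK.left] (a b : Z ⟶ K.left)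
    (h₁ : a ≫ (jK ≫ fst G M).left = b ≫ (jK ≫ fst G M).left)
    (h₂ : a ≫ (jK ≫ snd G M).left = b ≫ (jK ≫ snd G M).left) : a = b := by
  rw [← cancel_mono jK.left]
  refine pullback.hom_ext ?_ ?_
  · exact (Category.assoc _ _ _).trans (h₁.trans (Category.assoc _ _ _).symm)
  · exact (Category.assoc _ _ _).trans (h₂.trans (Category.assoc _ _ _).symm)

variable [GrpObj G] {D : Pieces G} (X : Model D)
  {T : Scheme.{u}} (f : T ⟶ S) {K' : Over T} [GrpObj K'] (j' : K' ⟶ Red.bc f G) [IsMonHom j'] [Mono j'.left]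

theorem subIncl_fst_left : (subIncl f j' ≫ fst G (Over.mk f)).left = j'.left ≫ pullback.fst G.hom f := by
  rw [Over.comp_left, subIncl_left]
  rfl

theorem subIncl_snd_left : (subIncl f j' ≫ snd G (Over.mk f)).left = K'.hom := by
  rw [subIncl, lift_snd]
  rfl

namespace Model

/-- A point classifies a subgroup as points exactly when the subschemes are isomorphic. -/
theorem same_pts_iff_exists_iso (v : Over.mk f ⟶ X.M) :
    (∀ (Z : Over S) (t : Z ⟶ Over.mk f) (g : Z ⟶ G), KPts (subIncl f j') t g ↔ KPts X.jK (t ≫ v) g) ↔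
      ∃ φ : K'.left ≅ (Red.bc v.left X.Kun).left,
        φ.hom ≫ (Red.bc v.left X.Kun).hom = K'.hom ∧
        φ.hom ≫ ((Over.pullback v.left).map X.jun).left ≫ pullback.fst (Red.bc X.M.hom G).hom v.left ≫
            pullback.fst G.hom X.M.hom = j'.left ≫ pullback.fst G.hom f := by
  haveI := X.closed
  haveI : Mono X.jK.left := inferInstance
  haveI := mono_subIncl f j'
  let p := (X.jK ≫ fst G X.M).left
  let q := (X.jK ≫ snd G X.M).left
  let p' : K'.left ⟶ G.left := (subIncl f j' ≫ fst G (Over.mk f)).left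
  let q' : K'.left ⟶ T := (subIncl f j' ≫ snd G (Over.mk f)).left
  have main := exists_iso_iff_same_pts p q p' q' v.left (fun a b => pts_ext X.jK a b)
    (fun a b => pts_ext (subIncl f j') a b)
  have h₁ : (∀ (Z : Over S) (t : Z ⟶ Over.mk f) (g : Z ⟶ G), KPts (subIncl f j') t g ↔ KPts X.jK (t ≫ v) g) ↔
      ∀ (Z : Scheme.{u}) (t : Z ⟶ T) (g : Z ⟶ G.left),
        (∃ k, k ≫ q' = t ∧ k ≫ p' = g) ↔ ∃ k, k ≫ q = t ≫ v.left ∧ k ≫ p = g := by
    constructor
    · intro h Z t g
      by_cases hg : g ≫ G.hom = t ≫ f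
      · let W : Over S := Over.mk (t ≫ f)
        have := h W (Over.homMk t rfl) (Over.homMk g hg)
        rw [kPts_iff_left, kPts_iff_left] at this
        exact this
      · refine iff_of_false ?_ ?_
        · rintro ⟨k, rfl, rfl⟩
          refine hg ?_
          rw [Category.assoc, Category.assoc]
          exact congrArg (k ≫ ·) ((Over.w (subIncl f j' ≫ fst G (Over.mk f))).trans
            (Over.w (subIncl f j' ≫ snd G (Over.mk f))).symm)
        · rintro ⟨k, hk, rfl⟩
          refine hg ?_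
          rw [Category.assoc, show t ≫ f = (t ≫ v.left) ≫ X.M.hom by rw [Category.assoc, Over.w v]; rfl, ← hk,
            Category.assoc]
          exact congrArg (k ≫ ·) ((Over.w (X.jK ≫ fst G X.M)).trans (Over.w (X.jK ≫ snd G X.M)).symm)
    · intro h Z t g
      rw [kPts_iff_left, kPts_iff_left]
      exact h Z.left t.left g.left
  rw [h₁, ← main]
  have hA : ((Over.pullback v.left).map X.jun).left ≫ pullback.fst (Red.bc X.M.hom G).hom v.left ≫
      pullback.fst G.hom X.M.hom = pullback.fst q v.left ≫ p := by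
    rw [← Category.assoc]
    exact (congrArg (· ≫ pullback.fst G.hom X.M.hom) (pullback.lift_fst _ _ _)).trans (Category.assoc _ _ _)
  have hp : p' = j'.left ≫ pullback.fst G.hom f := subIncl_fst_left f j'
  have hq : q' = K'.hom := subIncl_snd_left f j'
  rw [hp, hq]
  constructor
  · rintro ⟨φ, h2, h3⟩
    exact ⟨φ, h2, (congrArg (φ.hom ≫ ·) hA).trans h3⟩
  · rintro ⟨φ, h2, h3⟩
    exact ⟨φ, h2, (congrArg (φ.hom ≫ ·) hA).symm.trans h3⟩

end Model

end Groth.Misc15.MTSub
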