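import Groth.Agent.Misc15.MTSub.Rel
import Groth.Agent.AlgGrp1.Blanchard

/-!
The tautological family over the parameter scheme is a closed subgroup.
-/

set_option autoImplicit false
set_option linter.style.haveILetI false
universe u

open CategoryTheory CategoryTheory.Limits MonoidalCategory CartesianMonoidalCategory MonObj AlgebraicGeometry
open Groth.Reductive Groth.Reductive.MTInt

noncomputable section

namespace Groth.Misc15.MTSub

theorem family_one {S : Scheme.{u}} {H G X : Over S} [GrpObj H] [GrpObj G] {φ : H ⊗ X ⟶ G}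
    (hφ : AutFam.IsHomFamily H G φ) {W : Over S} (t : W ⟶ X) : lift (1 : W ⟶ H) t ≫ φ = 1 := by
  have h := hφ W 1 1 t
  rw [_root_.one_mul] at h
  exact left_eq_mul.1 h

variable {S : Scheme.{u}} {G : Over S} [GrpObj G] (D : Pieces G)

namespace Pieces

theorem isClosedImmersion_graph (hGa : IsAffineHom G.hom) (i : Idx.{u}) :
    IsClosedImmersion (lift (D.υ i) (snd (D.H i) (D.P i))).left := by
  have h := isClosedImmersion_uOf (locTriv_DS' (S := S) i.Λ) hGa (D.hom i) (D.inj i)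
  have e1 : ∀ {K : Over S} [GrpObj K] {W : Over (D.P i).left} (c : W ⟶ Red.bc (D.P i).hom K),
      (bcPointEquiv (D.P i).hom K W c).left = c.left ≫ pullback.fst K.hom (D.P i).hom := fun c => by
    simp [bcPointEquiv, Adjunction.homEquiv_counit]
  have e : (lift (D.υ i) (snd (D.H i) (D.P i))).left = (uOf (D.υ i)).left := by
    refine pullback.hom_ext ?_ ?_
    · refine (congrArg CommaMorphism.left (lift_fst (D.υ i) (snd (D.H i) (D.P i)))).trans ?_
      refine Eq.trans ?_ (e1 (uOf (D.υ i)))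
      rw [← Category.id_comp (uOf (D.υ i)), pt_uOf]
      show (D.υ i).left = (lift (bcPointEquiv (D.P i).hom (D.H i) _ (𝟙 (Red.bc (D.P i).hom (D.H i)))) (pr (D.P i) _)).left ≫ (D.υ i).left
      rw [show (lift (bcPointEquiv (D.P i).hom (D.H i) _ (𝟙 (Red.bc (D.P i).hom (D.H i)))) (pr (D.P i) _)).left =
          𝟙 (D.H i ⊗ D.P i).left from ?_]
      · exact (Category.id_comp _).symm
      · refine pullback.hom_ext ?_ ?_
        · refine (congrArg CommaMorphism.left (lift_fst (bcPointEquiv (D.P i).hom (D.H i) _ (𝟙 (Red.bc (D.P i).hom (D.H i)))) (pr (D.P i) (Red.bc (D.P i).hom (D.H i))))).trans ((e1 _).trans ?_)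
          rfl
        · refine (congrArg CommaMorphism.left (lift_snd (bcPointEquiv (D.P i).hom (D.H i) _ (𝟙 (Red.bc (D.P i).hom (D.H i)))) (pr (D.P i) (Red.bc (D.P i).hom (D.H i))))).trans ?_
          exact (Category.id_comp _).symm
    · refine (congrArg CommaMorphism.left (lift_snd (D.υ i) (snd (D.H i) (D.P i)))).trans ?_
      exact (Over.w (uOf (D.υ i))).symm
  rw [e]
  exact h

/-- The tautological family is a closed subscheme. -/
theorem isClosedImmersion_pU_qU (hGa : IsAffineHom G.hom) : IsClosedImmersion (lift D.pU D.qU).left := by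
  have sq := fun i => Groth.AlgGrp1.isPullback_whiskerLeft G (D.inc i)
  haveI : ∀ i, IsOpenImmersion (G ◁ D.inc i).left := fun i =>
    MorphismProperty.of_isPullback (P := @IsOpenImmersion) (sq i) inferInstance
  let 𝒰 : (G ⊗ D.U).left.OpenCover :=
    Scheme.Cover.mkOfCovers Idx.{u} (fun i => (G ⊗ D.P i).left) (fun i => (G ◁ D.inc i).left) (fun z => by
      obtain ⟨i, y, hy⟩ := D.inc_surjective ((snd G D.U).left z)
      obtain ⟨w, hw₁, hw₂⟩ := Scheme.Pullback.exists_preimage_pullback y z hy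
      refine ⟨i, (sq i).isoPullback.inv w, ?_⟩
      rw [← Scheme.Hom.comp_apply, (sq i).isoPullback_inv_snd]
      exact hw₂)
  refine IsZariskiLocalAtTarget.of_openCover (P := @IsClosedImmersion) 𝒰 fun i => ?_
  have hb : IsPullback (D.incK i).left (lift (D.υ i) (snd (D.H i) (D.P i))).left (lift D.pU D.qU).left
      (G ◁ D.inc i).left := by
    refine IsPullback.of_bot ?_ ?_ (sq i).flip
    · rw [← Over.comp_left, ← Over.comp_left, lift_snd, lift_snd]
      exact (D.isPullback_incK i).map (Over.forget S)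
    · rw [← Over.comp_left, ← Over.comp_left]
      congr 1
      ext1
      · simp [D.incK_pU]
      · simp [D.incK_qU]
  show IsClosedImmersion (pullback.snd (lift D.pU D.qU).left (G ◁ D.inc i).left)
  refine (MorphismProperty.cancel_left_of_respectsIso @IsClosedImmersion hb.isoPullback.hom _).1 ?_
  exact Eq.mpr (congrArg IsClosedImmersion hb.isoPullback_hom_snd) (D.isClosedImmersion_graph hGa i)

theorem pts_unique {Z : Over S} {k k' : Z ⟶ D.KU} (hp : k ≫ D.pU = k' ≫ D.pU) (hq : k ≫ D.qU = k' ≫ D.qU) :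
    k = k' := by
  haveI := D.mono_qU_pU
  rw [← cancel_mono (lift D.qU D.pU)]
  ext1 <;> simp [hp, hq]

theorem exists_piece_at {Z : Over S} (z : Z ⟶ D.U) (x : Z.left) :
    ∃ (i : Idx.{u}) (W : Z.left.Opens) (t : opnOb Z W ⟶ D.P i), x ∈ W ∧ t ≫ D.inc i = opnIncl Z W ≫ z := by
  obtain ⟨i, W, t, hx, -, -, ht⟩ := D.exists_local z x ⊤ trivial
  exact ⟨i, W, t, hx, ht⟩

theorem pts_one {Z : Over S} (z : Z ⟶ D.U) : D.Pts z 1 := by
  refine D.pts_of_local z 1 fun x => ?_
  obtain ⟨i, W, t, hx, ht⟩ := D.exists_piece_at z x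
  refine ⟨W, hx, ?_⟩
  rw [← ht, D.pts_inc_iff, MonObj.comp_one]
  exact ⟨1, family_one (D.hom i) t⟩

theorem pts_mul {Z : Over S} {z : Z ⟶ D.U} {g g' : Z ⟶ G} (h : D.Pts z g) (h' : D.Pts z g') :
    D.Pts z (g * g') := by
  obtain ⟨k, hk₁, hk₂⟩ := h
  obtain ⟨k', hk₁', hk₂'⟩ := h'
  refine D.pts_of_local z _ fun x => ?_
  obtain ⟨i, W, t, hx, ht⟩ := D.exists_piece_at z x
  obtain ⟨a, ha⟩ := (D.pts_inc_iff t _).1 ⟨opnIncl Z W ≫ k, by rw [Category.assoc, hk₁, ht],
    by rw [Category.assoc, hk₂]⟩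
  obtain ⟨a', ha'⟩ := (D.pts_inc_iff t _).1 ⟨opnIncl Z W ≫ k', by rw [Category.assoc, hk₁', ht],
    by rw [Category.assoc, hk₂']⟩
  refine ⟨W, hx, ?_⟩
  rw [← ht, D.pts_inc_iff, MonObj.comp_mul]
  exact ⟨a * a', by rw [D.hom i, ha, ha']⟩

theorem pts_inv {Z : Over S} {z : Z ⟶ D.U} {g : Z ⟶ G} (h : D.Pts z g) : D.Pts z g⁻¹ := by
  obtain ⟨k, hk₁, hk₂⟩ := h
  refine D.pts_of_local z _ fun x => ?_
  obtain ⟨i, W, t, hx, ht⟩ := D.exists_piece_at z x
  obtain ⟨a, ha⟩ := (D.pts_inc_iff t _).1 ⟨opnIncl Z W ≫ k, by rw [Category.assoc, hk₁, ht],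
    by rw [Category.assoc, hk₂]⟩
  refine ⟨W, hx, ?_⟩
  rw [← ht, D.pts_inc_iff, GrpObj.comp_inv]
  refine ⟨a⁻¹, ?_⟩
  have h1 := family_one (D.hom i) (W := opnOb Z W) t
  have h2 := D.hom i (opnOb Z W) a⁻¹ a t
  rw [inv_mul_cancel, h1, ha] at h2
  exact eq_inv_of_mul_eq_one_left h2.symm

end Pieces

end Groth.Misc15.MTSub
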