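import Groth.Agent.Misc15.MTSub.Rel
import Groth.Agent.Misc15.HomMT.Main

/-!
A locally quasi-finite invariant of the relation near every point.
-/

set_option autoImplicit false
set_option linter.style.haveILetI false
set_option synthInstance.maxHeartbeats 200000
universe u

open CategoryTheory CategoryTheory.Limits MonoidalCategory CartesianMonoidalCategory MonObj AlgebraicGeometry
open Groth.Reductive Groth.Reductive.MTInt

noncomputable section

namespace Groth.Misc15.MTSub

open Groth.Misc15.SemilocInj Groth.Misc15.TorusDvr Groth.Misc15.HomMT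

section Affine

variable {S : Scheme.{u}} {R : Type u} [CommRing R] (g : Spec (CommRingCat.of R) ⟶ S) {M : Type}
  [AddCommGroup M] {G : Over S} [GrpObj G]

/-- The chart of a diagonalisable group. -/
abbrev dsChart : Triv (Red.bc g (Red.DS S M)) (sp (algebraMap R R)) := trivBc g (dsTriv M _)

theorem isIso_sp_id : IsIso (sp (A := R) (algebraMap R R)).hom := by
  show IsIso (Spec.map (CommRingCat.ofHom (RingHom.id R)))
  rw [CommRingCat.ofHom_id, Spec.map_id]
  infer_instance

variable {C : Type u} [CommRing C] [Algebra R C]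

theorem ch_map_dsHom (e : M ≃+ M) (β : R →ₐ[R] C) (x : SemilocInj.Pt (Red.bc g (Red.DS S M)) C) :
    ch (dsChart g) β (x ≫ (Over.pullback g).map (dsHom S e.toAddMonoidHom)) =
      (ch (dsChart g) β x).comp (AddMonoidHom.toMultiplicative e.toAddMonoidHom) := by
  refine MonoidHom.ext fun m => ?_
  show (Scheme.ΓSpecIso (CommRingCat.of C)).hom (dsVal (bcPointEquiv g (Red.DS S M) _
      (x ≫ (Over.pullback g).map (dsHom S e.toAddMonoidHom))) m) =
    (Scheme.ΓSpecIso (CommRingCat.of C)).hom (dsVal (bcPointEquiv g (Red.DS S M) _ x)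
      (AddMonoidHom.toMultiplicative e.toAddMonoidHom m))
  rw [bcPointEquiv_map, dsVal_comp_dsHom]

variable [IsAffine (Red.bc g G).left] [Algebra.FinitePresentation R (Ob (Red.bc g G))]
  (F : FinComod R (Ob (Red.bc g G)))

theorem invMap_eq_of_dsFam {n : Over (Spec (CommRingCat.of R))}
    (a b : n ⟶ P₀ F (dsChart (M := M) g))
    {φa φb : Red.DS S M ⊗ (Over.map g).obj n ⟶ G}
    (ha : (Red.bc g (Red.DS S M) ◁ a) ≫ upsilon F (dsChart g) = toT g φa)
    (hb : (Red.bc g (Red.DS S M) ◁ b) ≫ upsilon F (dsChart g) = toT g φb)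
    (e : M ≃+ M) (h : φa = dsFam e.toAddMonoidHom φb) :
    a ≫ fst _ _ ≫ invMap F = b ≫ fst _ _ ≫ invMap F := by
  refine Groth.Misc15.HomMT.hom_ext_pts fun C _ _ z => ?_
  set eM : Chr (dsChart (M := M) g) →* Chr (dsChart (M := M) g) := AddMonoidHom.toMultiplicative e.toAddMonoidHom
  set Θ : Chr (dsChart (M := M) g) →* MonoidAlgebra C (Chr (dsChart (M := M) g)) := (MonoidAlgebra.of C (Chr (dsChart (M := M) g))).comp eM
  set Θ' : Chr (dsChart (M := M) g) →* MonoidAlgebra C (Chr (dsChart (M := M) g)) :=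
    (MonoidAlgebra.of C (Chr (dsChart (M := M) g))).comp (AddMonoidHom.toMultiplicative e.symm.toAddMonoidHom)
  have hlift : ∀ {W : Over (Spec (CommRingCat.of R))} (x : W ⟶ Red.bc g (Red.DS S M)) (y : W ⟶ n),
      lift x y ≫ toT g φa = lift (x ≫ (Over.pullback g).map (dsHom S e.toAddMonoidHom)) y ≫ toT g φb := by
    intro W x y
    apply (bcPointEquiv g G W).injective
    rw [point_toT, point_toT, h, lift_dsFam, bcPointEquiv_map]
  set β := betaOf ((z ≫ b) ≫ snd _ _)
  have hΦ : phiOf F (dsChart (M := M) g) ((z ≫ a) ≫ fst _ _) = (tw (R := R) Θ).comp (phiOf F (dsChart (M := M) g) ((z ≫ b) ≫ fst _ _)) := by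
    rw [← famOf_upsilon F (dsChart (M := M) g) (z ≫ a), ← famOf_upsilon F (dsChart (M := M) g) (z ≫ b),
      Subsingleton.elim (betaOf ((z ≫ a) ≫ snd _ _)) β, ← famOf_comp, ← famOf_comp, ha, hb]
    show ptAlg (lift (hU (dsChart (M := M) g) β) (pl MonoidAlgebra.singleOneAlgHom z) ≫ toT g φa) = _
    rw [hlift, famOf_key (dsChart (M := M) g) (toT g φb) z β]
    congr 1
    rw [ch_map_dsHom, hU, MulEquiv.apply_symm_apply]
    rfl
  have hgl : IsGL (R := R) Θ := ⟨fun x => by simp [Θ, MonoidAlgebra.of_apply, MonoidAlgebra.single_mul_single],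
    fun x => by simp [Θ, MonoidAlgebra.of_apply]⟩
  have hinv : (tw (R := R) Θ').comp (tw Θ) = AlgHom.id R _ := by
    have key : ∀ (x : Chr (dsChart (M := M) g)) (c : C), (tw (R := R) Θ') (tw (R := R) Θ (MonoidAlgebra.single x c)) =
        MonoidAlgebra.single x c := fun x c => by
      simp [Θ, Θ', eM, MonoidAlgebra.of_apply, MonoidAlgebra.single_mul_single]
      exact congrArg (MonoidAlgebra.single · c) (e.symm_apply_apply x)
    refine AlgHom.ext fun w => ?_
    induction w using MonoidAlgebra.induction_linear with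
    | zero => simp
    | add p q hp hq => rw [map_add, map_add, hp, hq]
    | single x c => exact key x c
  have hc : ∀ p : SemilocInj.Pt (homS (G := Chr (dsChart (M := M) g)) F) C, p ≫ invMap F =
      Groth.GrassRep.ptMap (B := CommAlgCat.of R C) (CommAlgCat.ofHom (cmap (genA F) (phiOf F (dsChart (M := M) g) p))) :=
    fun p => by
      have := invMap_spec F (CommAlgCat.of R C) ((eqvHomS F (CommAlgCat.of R C)).symm p)
      rw [Equiv.apply_symm_apply] at this
      exact this
  rw [← Category.assoc, ← Category.assoc, ← Category.assoc, ← Category.assoc, hc, hc, hΦ, cmap_tw _ _ hgl hinv]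

end Affine

variable {S : Scheme.{u}} {G : Over S} [GrpObj G] (D : Pieces G)

namespace Pieces

theorem exists_invariant (hG : Smooth G.hom) (hGa : IsAffineHom G.hom) (u : D.U.left) :
    ∃ (O : D.U.left.Opens) (T : Over S) (π₀ : opnOb D.U O ⟶ T), u ∈ O ∧
      IsAffineOpen O ∧ IsAffine T.left ∧ LocallyQuasiFinite π₀.left ∧ LocallyOfFiniteType π₀.left ∧
      ∀ (Z : Over S) (r : Z ⟶ D.R) (a b : Z ⟶ opnOb D.U O),
        a ≫ opnIncl D.U O = r ≫ D.tR → b ≫ opnIncl D.U O = r ≫ D.sR → a ≫ π₀ = b ≫ π₀ := by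
  obtain ⟨i, x, rfl⟩ := D.inc_surjective u
  obtain ⟨R, g, hg, hxg⟩ : ∃ (R : CommRingCat.{u}) (g : Spec R ⟶ S) (_ : IsOpenImmersion g),
      (D.P i).hom x ∈ g.opensRange := by
    obtain ⟨Vb, hVb, hxV, -⟩ := exists_isAffineOpen_mem_and_subset
      (U := (⊤ : S.Opens)) (show (D.P i).hom x ∈ (⊤ : S.Opens) from trivial)
    exact ⟨Γ(S, Vb), hVb.fromSpec, inferInstanceAs (IsOpenImmersion hVb.fromSpec), hVb.range_fromSpec.ge hxV⟩
  obtain ⟨R⟩ := R
  haveI := hg
  obtain ⟨W, hW, hxW, hWV⟩ := exists_isAffineOpen_mem_and_subset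
    (U := (D.P i).hom ⁻¹ᵁ g.opensRange) (show x ∈ (D.P i).hom ⁻¹ᵁ g.opensRange from hxg)
  let k : (W : Scheme.{u}) ⟶ Spec (CommRingCat.of R) := IsOpenImmersion.lift g (W.ι ≫ (D.P i).hom) (by
    rintro _ ⟨y, rfl⟩
    exact hWV y.2)
  have hk : k ≫ g = W.ι ≫ (D.P i).hom := IsOpenImmersion.lift_fac _ _ _
  let Wg : Over (Spec (CommRingCat.of R)) := Over.mk k
  let iW : (Over.map g).obj Wg ⟶ D.P i := Over.homMk W.ι hk.symm
  haveI : IsAffineHom (Red.bc g G).hom := MorphismProperty.pullback_snd (P := @IsAffineHom) _ _ hGa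
  haveI : IsAffine (Red.bc g G).left := isAffine_of_isAffineHom (Red.bc g G).hom
  haveI : Smooth (Red.bc g G).hom := MorphismProperty.pullback_snd (P := @Smooth) _ _ hG
  haveI : Algebra.Smooth R (Ob (Red.bc g G)) := by
    have h : Smooth (Spec.map (CommRingCat.ofHom (algebraMap R (Ob (Red.bc g G))))) := by
      rw [← isoSpec_inv_hom]; infer_instance
    exact RingHom.smooth_algebraMap.1 ((HasRingHomProperty.Spec_iff (P := @Smooth)).1 h)
  haveI : Algebra.FinitePresentation R (Ob (Red.bc g G)) := Algebra.Smooth.finitePresentation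
  obtain ⟨F⟩ := exists_finComod (R := R) (A := Ob (Red.bc g G))
  let τ := dsChart (M := i.Λ) g
  let φ : D.H i ⊗ (Over.map g).obj Wg ⟶ G := (D.H i ◁ iW) ≫ D.υ i
  have hφ := isHomFamily_whisker (D.hom i) iW
  haveI := isIso_sp_id (R := R)
  let w : Wg ⟶ X₀ (R := R) R := Over.homMk (k ≫ inv (sp (A := R) (algebraMap R R)).hom) (by
    show (k ≫ inv _) ≫ _ = k
    rw [Category.assoc]; exact (congrArg (k ≫ ·) (IsIso.inv_hom_id _)).trans (Category.comp_id k))
  obtain ⟨a, ⟨-, ha⟩, -⟩ := existsUnique_classify F τ w (toT g φ) ((isHomFamily_toT_iff g φ).2 hφ)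
  let π' : Wg ⟶ Groth.GrassRep.Pt (invRing F) := a ≫ fst _ _ ≫ invMap F
  haveI : Mono W.ι := inferInstance
  haveI hmonoiW : Mono iW := (Over.forget S).mono_of_mono_map (inferInstanceAs (Mono W.ι))
  haveI : Mono a := ⟨fun {n} c c' hcc => by
    have h1 := congrArg (fun m => (Red.bc g (D.H i) ◁ m) ≫ upsilon F τ) hcc
    simp only [whiskerLeft_comp, Category.assoc, ha, ← toT_comp] at h1
    have h2 := congrArg (toS g) h1
    simp only [toS_toT, φ, ← whiskerLeft_comp_assoc] at h2
    have h3 := (cancel_mono iW).1 (D.eq_of_family h2)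
    exact Over.OverMorphism.ext (congrArg CommaMorphism.left h3 :)⟩
  have hlft_a : LocallyOfFiniteType a.left := by
    haveI : LocallyOfFiniteType (a.left ≫ (P₀ F τ).hom) := by
      rw [Over.w a]
      show LocallyOfFiniteType k
      haveI := D.lft i
      haveI : LocallyOfFiniteType (k ≫ g) := by rw [hk]; infer_instance
      exact locallyOfFiniteType_of_comp k g
    exact locallyOfFiniteType_of_comp a.left (P₀ F τ).hom
  haveI := hlft_a
  haveI : Mono a.left := inferInstanceAs (Mono ((Over.forget _).map a))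
  haveI hqf_a : LocallyQuasiFinite a.left := inferInstance
  haveI : IsIso (fst (homS (G := Chr τ) F) (X₀ (R := R) R)).left := by
    show IsIso (pullback.fst (homS (G := Chr τ) F).hom (X₀ (R := R) R).hom)
    infer_instance
  haveI := locallyQuasiFinite_invMap (G := Chr τ) F
  haveI := locallyOfFiniteType_invMap (G := Chr τ) F
  haveI hqf : LocallyQuasiFinite π'.left := by
    show LocallyQuasiFinite (a.left ≫ (fst (homS (G := Chr τ) F) (X₀ (R := R) R)).left ≫ (invMap F).left)
    infer_instance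
  haveI hft : LocallyOfFiniteType π'.left := by
    show LocallyOfFiniteType (a.left ≫ (fst (homS (G := Chr τ) F) (X₀ (R := R) R)).left ≫ (invMap F).left)
    infer_instance
  let O : D.U.left.Opens := (D.inc i).left ''ᵁ W
  let ej : (O : Scheme.{u}) ≅ (W : Scheme.{u}) :=
    IsOpenImmersion.isoOfRangeEq O.ι (W.ι ≫ (D.inc i).left) (by
      rw [Scheme.Opens.range_ι, Scheme.Hom.comp_base, TopCat.coe_comp, Set.range_comp, Scheme.Opens.range_ι]
      rfl)
  have hej : ej.hom ≫ W.ι ≫ (D.inc i).left = O.ι := IsOpenImmersion.isoOfRangeEq_hom_fac _ _ _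
  let ε : opnOb D.U O ⟶ (Over.map g).obj Wg := Over.homMk ej.hom (by
    show ej.hom ≫ k ≫ g = O.ι ≫ D.U.hom
    rw [hk, ← hej, Category.assoc, Category.assoc, Over.w (D.inc i)])
  have hε : ε ≫ iW ≫ D.inc i = opnIncl D.U O := Over.OverMorphism.ext hej
  haveI : IsIso ε.left := inferInstanceAs (IsIso ej.hom)
  refine ⟨O, (Over.map g).obj (Groth.GrassRep.Pt (invRing F)), ε ≫ (Over.map g).map π', ⟨x, hxW, rfl⟩,
    hW.image_of_isOpenImmersion _, inferInstanceAs (IsAffine (Spec _)),
    inferInstanceAs (LocallyQuasiFinite (ε.left ≫ π'.left)),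
    inferInstanceAs (LocallyOfFiniteType (ε.left ≫ π'.left)), fun Z r p q hp hq => ?_⟩
  rw [← Category.assoc, ← Category.assoc]
  set p' := p ≫ ε
  set q' := q ≫ ε
  have hs : D.Same ((p' ≫ iW) ≫ D.inc i) ((q' ≫ iW) ≫ D.inc i) := by
    simp only [p', q', Category.assoc, hε, hp, hq]
    exact D.same_of_rel r
  choose V e hzV hVa hV using exists_comparison (isHomFamily_whisker (D.hom i) (p' ≫ iW))
    (isHomFamily_whisker (D.hom i) (q' ≫ iW)) ((D.inj i).comp _) ((D.inj i).comp _) ((same_inc_iff _ _).1 hs)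
  refine Over.OverMorphism.ext (Scheme.Cover.hom_ext (Scheme.openCoverOfIsOpenCover _ V (.mk (top_unique
    fun z _ => TopologicalSpace.Opens.mem_iSup.mpr ⟨z, hzV z⟩))) _ _ fun z => ?_)
  suffices h : (opnIncl Z (V z) ≫ p') ≫ (Over.map g).map π' = (opnIncl Z (V z) ≫ q') ≫ (Over.map g).map π' from
    (congrArg CommaMorphism.left (((Category.assoc _ _ _).symm.trans h).trans (Category.assoc _ _ _)) :)
  obtain ⟨n, c, y, hy⟩ := exists_over_point g (opnIncl Z (V z) ≫ p')
  let y' : n ⟶ Wg := Over.homMk (c.hom ≫ opnIncl Z (V z) ≫ q').left (by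
    rw [← cancel_mono g, Category.assoc]
    exact Over.w (c.hom ≫ opnIncl Z (V z) ≫ q'))
  have hy' : (Over.map g).map y' = c.hom ≫ opnIncl Z (V z) ≫ q' := Over.OverMorphism.ext rfl
  have hfam : ∀ v : n ⟶ Wg, (Red.bc g (D.H i) ◁ (v ≫ a)) ≫ upsilon F τ =
      toT g ((D.H i ◁ ((Over.map g).map v ≫ iW)) ≫ D.υ i) := fun v => by
    rw [whiskerLeft_comp_assoc, ha, ← toT_comp, whiskerLeft_comp_assoc]
  have key := invMap_eq_of_dsFam g F (y ≫ a) (y' ≫ a) (hfam y) (hfam y') (e z) (by
    rw [hy, hy']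
    simp only [whiskerLeft_comp, Category.assoc]
    have h := congrArg ((D.H i ◁ c.hom) ≫ ·) (hV z)
    simp only [whiskerLeft_dsFam, whiskerLeft_comp, Category.assoc] at h ⊢
    exact h)
  have key₂ : y ≫ π' = y' ≫ π' := by simpa only [π', Category.assoc] using key
  have key' := congrArg (fun m => (Over.map g).map m) key₂
  beta_reduce at key'
  rw [Functor.map_comp (Over.map g) y π', Functor.map_comp (Over.map g) y' π', hy, hy'] at key'
  simp only [Category.assoc] at key'
  simpa only [Category.assoc] using (cancel_epi c.hom).1 key'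

end Pieces

end Groth.Misc15.MTSub
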