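import Groth.Agent.Misc15.MTSub.Convert
import Groth.Agent.SmoothSlice.Sections
import Groth.Agent.Abvar.BaseChange
import Groth.Agent.GrpLim.Descend

/-!
Lifting subgroups of multiplicative type of a fibre to étale neighbourhoods.
-/

set_option autoImplicit false
set_option linter.style.haveILetI false
universe u

open CategoryTheory CategoryTheory.Limits MonoidalCategory CartesianMonoidalCategory MonObj AlgebraicGeometry
open Groth.Reductive Groth.Reductive.MTInt

noncomputable section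

namespace Groth.Misc15.MTSub

/-- A smooth morphism has a section on an étale neighbourhood through every rational point of a fibre. -/
theorem exists_etale_section_through {M S : Scheme.{u}} (p : M ⟶ S) [Smooth p] (s : S)
    (m : Spec (S.residueField s) ⟶ M) (hm : m ≫ p = S.fromSpecResidueField s) :
    ∃ (S' : Scheme.{u}) (g : S' ⟶ M) (σ : Spec (S.residueField s) ⟶ S'), Etale (g ≫ p) ∧ σ ≫ g = m := by
  let x : M := m (IsLocalRing.closedPoint (S.residueField s))
  have hx : p x = s := by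
    rw [← Scheme.Hom.comp_apply, hm, Scheme.fromSpecResidueField_apply]
  have hsep : @Algebra.IsSeparable (S.residueField (p x)) (M.residueField x) _ _
      (p.residueFieldMap x).hom.toAlgebra := by
    letI := (p.residueFieldMap x).hom.toAlgebra
    have h : Function.Surjective (p.residueFieldMap x).hom := by
      obtain ⟨ψ, hψ⟩ : ∃ ψ : M.residueField x ⟶ S.residueField s,
          Spec.map ψ ≫ M.fromSpecResidueField x = m := ⟨_, Scheme.descResidueField_stalkClosedPointTo_fromSpecResidueField (S.residueField s) M m⟩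
      have hc : Spec.map (p.residueFieldMap x ≫ ψ) ≫ S.fromSpecResidueField (p x) =
          Spec.map (S.residueFieldCongr hx).hom ≫ S.fromSpecResidueField (p x) := by
        rw [Spec.map_comp, Category.assoc, Scheme.Hom.SpecMap_residueFieldMap_fromSpecResidueField, ← Category.assoc, hψ, hm,
          Scheme.residueFieldCongr_fromSpecResidueField]
      have hc' : p.residueFieldMap x ≫ ψ = (S.residueFieldCongr hx).hom :=
        Spec.map_injective ((cancel_mono _).1 hc)
      intro b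
      obtain ⟨a, ha⟩ := (ConcreteCategory.bijective_of_isIso (S.residueFieldCongr hx).hom).2 (ψ b)
      exact ⟨a, ψ.hom.injective ((congrArg (fun φ => φ a) hc').trans ha)⟩
    exact ⟨fun b => by
      obtain ⟨a, rfl⟩ := h b
      exact isSeparable_algebraMap a⟩
  obtain ⟨Z, i, z, hi, he, hz, -⟩ := Groth.SmoothSlice.exists_etale_slice_through p x hsep
  haveI := hi
  haveI : IsIso (i.residueFieldMap z) := by
    rw [ConcreteCategory.isIso_iff_bijective]
    refine ⟨(i.residueFieldMap z).hom.injective, fun b => ?_⟩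
    obtain ⟨c, rfl⟩ := Z.residue_surjective z b
    obtain ⟨a, rfl⟩ := i.stalkMap_surjective z c
    exact ⟨M.residue (i z) a, congrArg (fun φ => φ a) (Scheme.residue_residueFieldMap i z)⟩
  obtain ⟨ψ, hψ⟩ : ∃ ψ : M.residueField (i z) ⟶ S.residueField s,
      Spec.map ψ ≫ M.fromSpecResidueField (i z) = m := by
    rw [hz]
    exact ⟨_, Scheme.descResidueField_stalkClosedPointTo_fromSpecResidueField (S.residueField s) M m⟩
  refine ⟨Z, i, Spec.map (inv (i.residueFieldMap z) ≫ ψ) ≫ Z.fromSpecResidueField z, he, ?_⟩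
  rw [Category.assoc, ← Scheme.Hom.SpecMap_residueFieldMap_fromSpecResidueField, Spec.map_comp, Category.assoc,
    ← Spec.map_comp_assoc (i.residueFieldMap z), IsIso.hom_inv_id, Spec.map_id, Category.id_comp, hψ]

variable {S : Scheme.{u}}

/-- The inclusion of an iterated pullback of the universal subgroup. -/
theorem comp_restrict {G : Over S} [GrpObj G] {D : Pieces G} (X : Model D) {T S' : Scheme.{u}}
    (g : S' ⟶ X.M.left) (σ : T ⟶ S') :
    ((Over.forget T).mapIso ((Over.pullbackComp σ g).app X.Kun)).hom ≫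
      ((Over.pullback σ).map ((Over.pullback g).map X.jun ≫ (Over.pullbackComp g X.M.hom).inv.app G)).left ≫
        pullback.fst (Red.bc (g ≫ X.M.hom) G).hom σ ≫ pullback.fst G.hom (g ≫ X.M.hom) =
      ((Over.pullback (σ ≫ g)).map X.jun).left ≫ pullback.fst (Red.bc X.M.hom G).hom (σ ≫ g) ≫
        pullback.fst G.hom X.M.hom := by
  have A : ∀ {Y W : Over S'} (a : Y ⟶ W), ((Over.pullback σ).map a).left ≫ pullback.fst W.hom σ =
      pullback.fst Y.hom σ ≫ a.left := fun a => pullback.lift_fst _ _ _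
  have B : ∀ {S₁ : Scheme.{u}} (u : S₁ ⟶ X.M.left), ((Over.pullback u).map X.jun).left ≫
      pullback.fst (Red.bc X.M.hom G).hom u = pullback.fst X.Kun.hom u ≫ X.jun.left :=
    fun u => pullback.lift_fst _ _ _
  have C : ((Over.forget T).mapIso ((Over.pullbackComp σ g).app X.Kun)).hom ≫
      pullback.fst (Red.bc g X.Kun).hom σ ≫ pullback.fst X.Kun.hom g = pullback.fst X.Kun.hom (σ ≫ g) :=
    Groth.GrpLim.pullbackComp_hom_fst σ g X.Kun
  erw [reassoc_of% (A ((Over.pullback g).map X.jun ≫ (Over.pullbackComp g X.M.hom).inv.app G))]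
  rw [Over.comp_left, Category.assoc, Groth.GrpLim.pullbackComp_inv_fst]
  refine Eq.trans ?_ (congrArg (· ≫ pullback.fst G.hom X.M.hom) (B (σ ≫ g))).symm
  rw [← C]
  simp only [Category.assoc]
  exact congrArg (fun a => _ ≫ pullback.fst (Red.bc g X.Kun).hom σ ≫ a)
    ((Category.assoc _ _ _).symm.trans ((congrArg (· ≫ pullback.fst G.hom X.M.hom) (B g)).trans
      (Category.assoc _ _ _)))

/-- A classifying point on an étale neighbourhood restricts to the given subgroup. -/
theorem exists_restrict {G : Over S} [GrpObj G] {D : Pieces G} (X : Model D) [GrpObj X.Kun] {T S' : Scheme.{u}}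
    (g : S' ⟶ X.M.left) (σ : T ⟶ S') (w : T ⟶ X.M.left) (hw : σ ≫ g = w) {K' : Over T} (q : K'.left ⟶ G.left)
    (φ : K'.left ≅ (Red.bc w X.Kun).left) (h₁ : φ.hom ≫ (Red.bc w X.Kun).hom = K'.hom)
    (h₂ : φ.hom ≫ ((Over.pullback w).map X.jun).left ≫ pullback.fst (Red.bc X.M.hom G).hom w ≫
      pullback.fst G.hom X.M.hom = q) :
    ∃ φ' : K'.left ≅ (Red.bc σ (Red.bc g X.Kun)).left,
      φ'.hom ≫ (Red.bc σ (Red.bc g X.Kun)).hom = K'.hom ∧
      φ'.hom ≫ ((Over.pullback σ).map ((Over.pullback g).map X.jun ≫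
          (Over.pullbackComp g X.M.hom).inv.app G)).left ≫
        pullback.fst (Red.bc (g ≫ X.M.hom) G).hom σ ≫ pullback.fst G.hom (g ≫ X.M.hom) = q := by
  subst hw
  let c : (Red.bc (σ ≫ g) X.Kun).left ≅ (Red.bc σ (Red.bc g X.Kun)).left :=
    (Over.forget T).mapIso ((Over.pullbackComp σ g).app X.Kun)
  refine ⟨φ ≪≫ c, ?_, ?_⟩
  · rw [Iso.trans_hom, Category.assoc, show c.hom ≫ (Red.bc σ (Red.bc g X.Kun)).hom =
      (Red.bc (σ ≫ g) X.Kun).hom from Over.w ((Over.pullbackComp σ g).hom.app X.Kun), h₁]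
  · rw [Iso.trans_hom, Category.assoc, ← h₂]
    exact congrArg (φ.hom ≫ ·) (comp_restrict X g σ)

/-- The converse of `exists_restrict`. -/
theorem exists_unrestrict {G : Over S} [GrpObj G] {D : Pieces G} (X : Model D) [GrpObj X.Kun] {T S' : Scheme.{u}}
    (g : S' ⟶ X.M.left) (σ : T ⟶ S') {K' : Over T} (q : K'.left ⟶ G.left)
    (φ' : K'.left ≅ (Red.bc σ (Red.bc g X.Kun)).left) (h₁ : φ'.hom ≫ (Red.bc σ (Red.bc g X.Kun)).hom = K'.hom)
    (h₂ : φ'.hom ≫ ((Over.pullback σ).map ((Over.pullback g).map X.jun ≫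
          (Over.pullbackComp g X.M.hom).inv.app G)).left ≫
        pullback.fst (Red.bc (g ≫ X.M.hom) G).hom σ ≫ pullback.fst G.hom (g ≫ X.M.hom) = q) :
    ∃ φ : K'.left ≅ (Red.bc (σ ≫ g) X.Kun).left, φ.hom ≫ (Red.bc (σ ≫ g) X.Kun).hom = K'.hom ∧
      φ.hom ≫ ((Over.pullback (σ ≫ g)).map X.jun).left ≫ pullback.fst (Red.bc X.M.hom G).hom (σ ≫ g) ≫
        pullback.fst G.hom X.M.hom = q := by
  let c : (Red.bc (σ ≫ g) X.Kun).left ≅ (Red.bc σ (Red.bc g X.Kun)).left :=
    (Over.forget T).mapIso ((Over.pullbackComp σ g).app X.Kun)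
  refine ⟨φ' ≪≫ c.symm, ?_, ?_⟩
  · rw [Iso.trans_hom, Category.assoc, show c.symm.hom ≫ (Red.bc (σ ≫ g) X.Kun).hom =
      (Red.bc σ (Red.bc g X.Kun)).hom from Over.w ((Over.pullbackComp σ g).inv.app X.Kun), h₁]
  · rw [← h₂]
    have key : ((Over.pullback (σ ≫ g)).map X.jun).left ≫ pullback.fst (Red.bc X.M.hom G).hom (σ ≫ g) ≫
        pullback.fst G.hom X.M.hom = c.hom ≫ ((Over.pullback σ).map ((Over.pullback g).map X.jun ≫
          (Over.pullbackComp g X.M.hom).inv.app G)).left ≫
        pullback.fst (Red.bc (g ≫ X.M.hom) G).hom σ ≫ pullback.fst G.hom (g ≫ X.M.hom) :=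
      (comp_restrict X g σ).symm
    rw [Iso.trans_hom, Category.assoc, key, Iso.symm_hom, Iso.inv_hom_id_assoc]

/-- A subgroup of multiplicative type of a fibre lifts to an étale neighbourhood with trivial residue
extension. -/
theorem exists_lifting_nhd (G : Over S) [GrpObj G] (hG : Smooth G.hom) (hGa : IsAffineHom G.hom) (s : S)
    {H₀ : Over (Spec (S.residueField s))} [GrpObj H₀] (i₀ : H₀ ⟶ Red.bc (S.fromSpecResidueField s) G)
    [IsMonHom i₀] [Mono i₀.left] (hH₀ : SGA3x.IsMultTypeFT H₀) :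
    ∃ (S' : Scheme.{u}) (e : S' ⟶ S) (σ : Spec (S.residueField s) ⟶ S'), Etale e ∧
      σ ≫ e = S.fromSpecResidueField s ∧
      ∃ (H' : Over S') (_ : GrpObj H') (i' : H' ⟶ Red.bc e G) (_ : IsMonHom i') (_ : Mono i'),
        SGA3x.IsMultTypeFT H' ∧ ∃ φ : H₀.left ≅ (Red.bc σ H').left, φ.hom ≫ (Red.bc σ H').hom = H₀.hom ∧
          φ.hom ≫ ((Over.pullback σ).map i').left ≫ pullback.fst (Red.bc e G).hom σ ≫ pullback.fst G.hom e =
            i₀.left ≫ pullback.fst G.hom (S.fromSpecResidueField s) := by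
  obtain ⟨D, hOk, hs⟩ := exists_pieces G hG hGa
  obtain ⟨X⟩ := exists_model D hG hGa
  obtain ⟨iK, hj⟩ := X.exists_grpObj_Kun
  letI := iK
  haveI := hj
  haveI := X.isClosedImmersion_jun
  haveI : Smooth X.M.hom := Model.smooth_M D X hs
  obtain ⟨v, hv, -⟩ := X.existsUnique_point (S.fromSpecResidueField s) i₀ hH₀ fun _ _ _ _ i _ => hOk i
  obtain ⟨φ, hφ₁, hφ₂⟩ := (X.same_pts_iff_exists_iso (S.fromSpecResidueField s) i₀ v).1 hv
  obtain ⟨S', g, σ, he, hσ⟩ := exists_etale_section_through X.M.hom s v.left (Over.w v)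
  haveI := (Groth.Abvar.isMonHom_pullbackComp g X.M.hom G).1
  haveI := Groth.Abvar.isMonHom_map (f := g) X.jun
  haveI : Mono X.jun := (Over.forget X.M.left).mono_of_mono_map (inferInstanceAs (Mono X.jun.left))
  haveI : Mono ((Over.pullback g).map X.jun) := inferInstance
  refine ⟨S', g ≫ X.M.hom, σ, he, ?_, Red.bc g X.Kun, inferInstance,
    (Over.pullback g).map X.jun ≫ (Over.pullbackComp g X.M.hom).inv.app G, inferInstance, inferInstance,
    Groth.Reductive.FreeDiag.isMultTypeFT_bc X.isMultTypeFT_Kun g,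
    exists_restrict X g σ v.left hσ _ φ hφ₁ hφ₂⟩
  rw [← Category.assoc, hσ, Over.w v]
  rfl

end Groth.Misc15.MTSub
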