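import Groth.Agent.Misc15.MTSub.Space
import Groth.Agent.Reductive.MTFactor

/-!
The closed locus where one family of subgroups is contained in another.
-/

set_option autoImplicit false
set_option linter.style.haveILetI false
universe u

open CategoryTheory CategoryTheory.Limits MonoidalCategory CartesianMonoidalCategory MonObj AlgebraicGeometry
open Groth.Reductive Groth.Reductive.MTInt Groth.Misc15.HomMT

noncomputable section

namespace Groth.Misc15.MTSub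

variable {S : Scheme.{u}} {H H' G : Over S} [GrpObj H] [GrpObj H'] [GrpObj G] {X : Over S}

/-- One family is contained in another. -/
def Le (φ : H ⊗ X ⟶ G) (ψ : H' ⊗ X ⟶ G) : Prop :=
  ∃ w : H ⊗ X ⟶ H', lift w (snd H X) ≫ ψ = φ

omit [GrpObj H] [GrpObj H'] [GrpObj G] in
theorem le_iff (φ : H ⊗ X ⟶ G) (ψ : H' ⊗ X ⟶ G) :
    Le φ ψ ↔ ∀ (W : Over S) (t : W ⟶ X) (g : W ⟶ G), Img φ t g → Img ψ t g := by
  constructor
  · rintro ⟨w, hw⟩ W t g ⟨h, rfl⟩
    refine ⟨lift h t ≫ w, ?_⟩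
    rw [← hw, comp_lift_assoc, lift_snd]
  · intro h
    obtain ⟨w, hw⟩ := h _ (snd H X) φ ⟨fst H X, by rw [lift_fst_snd, Category.id_comp]⟩
    exact ⟨w, hw⟩

omit [GrpObj H] [GrpObj H'] [GrpObj G] in
theorem Le.comp {φ : H ⊗ X ⟶ G} {ψ : H' ⊗ X ⟶ G} (h : Le φ ψ) {X' : Over S} (a : X' ⟶ X) :
    Le ((H ◁ a) ≫ φ) ((H' ◁ a) ≫ ψ) := by
  obtain ⟨w, hw⟩ := h
  refine ⟨(H ◁ a) ≫ w, ?_⟩
  rw [← hw, lift_whiskerLeft_assoc, comp_lift_assoc, whiskerLeft_snd]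

/-- The locus where one family is contained in another is closed. -/
theorem exists_leLocus (hH : LocTriv H) (hH' : LocTriv H') (hG : IsAffineHom G.hom) (φ : H ⊗ X ⟶ G)
    (ψ : H' ⊗ X ⟶ G) (hψ : AutFam.IsHomFamily H' G ψ) (hi : InjF ψ) :
    ∃ (E : Over S) (j : E ⟶ X), IsClosedImmersion j.left ∧
      ∀ (Z : Over S) (g : Z ⟶ X), (∃ z, z ≫ j = g) ↔ Le ((H ◁ g) ≫ φ) ((H' ◁ g) ≫ ψ) := by
  haveI := isClosedImmersion_uOf hH' hG hψ hi
  let c : Red.bc X.hom H ⊗ 𝟙_ (Over X.left) ⟶ Red.bc X.hom G := fst _ _ ≫ uOf φ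
  obtain ⟨E, j, hj, -, hE⟩ := exists_factorLocus (uOf ψ) (Groth.Misc15.HomMT.locTriv_bc X.hom hH)
    (MorphismProperty.pullback_snd (P := @IsAffineHom) _ _ hG) c
  let E' : Over S := (Over.map X.hom).obj E
  let j' : E' ⟶ X := pr X E
  have hcl : IsClosedImmersion j'.left := by
    show IsClosedImmersion E.hom
    rw [← Over.w j]
    haveI := hj
    exact MorphismProperty.comp_mem @IsClosedImmersion _ _ hj (MorphismProperty.id_mem @IsClosedImmersion _)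
  refine ⟨E', j', hcl, fun Z g => ?_⟩
  obtain ⟨e, he⟩ := exists_over_pr g
  let Y : Over X.left := Over.mk g.left
  let t : Y ⟶ 𝟙_ (Over X.left) := toUnit Y
  haveI := isIso_θ (H := H) X.hom Y
  have key : ∀ w : Red.bc X.hom H ⊗ Y ⟶ Red.bc X.hom H',
      w ≫ uOf ψ = (Red.bc X.hom H ◁ t) ≫ c ↔
      lift (inv (θ X.hom Y) ≫ bcPointEquiv X.hom H' _ w) (snd H _) ≫ (H' ◁ pr X Y) ≫ ψ =
        (H ◁ pr X Y) ≫ φ := by
    intro w
    have hp : (Over.map X.hom).map (snd (Red.bc X.hom H) Y) ≫ pr X Y = pr X (Red.bc X.hom H ⊗ Y) :=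
      Over.OverMorphism.ext (Over.w (snd (Red.bc X.hom H) Y))
    rw [← (bcPointEquiv X.hom G _).injective.eq_iff, pt_uOf,
      show (Red.bc X.hom H ◁ t) ≫ c = fst _ _ ≫ uOf φ by simp [c], pt_uOf, ← cancel_epi (θ (H := H) X.hom Y)]
    rw [lift_whiskerLeft_assoc, comp_lift_assoc, IsIso.hom_inv_id_assoc]
    have hs : θ (H := H) X.hom Y ≫ snd H _ ≫ pr X Y = pr X (Red.bc X.hom H ⊗ Y) := by
      rw [θ, lift_snd_assoc, hp]
    have hf : θ (H := H) X.hom Y ≫ (H ◁ pr X Y) =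
        lift (bcPointEquiv X.hom H _ (fst (Red.bc X.hom H) Y)) (pr X (Red.bc X.hom H ⊗ Y)) := by
      ext1
      · simp [θ]
      · rw [Category.assoc, whiskerLeft_snd, hs, lift_snd]
    rw [hs, reassoc_of% hf]
  have hfac : Factors (uOf ψ) c t ↔ Le ((H ◁ pr X Y) ≫ φ) ((H' ◁ pr X Y) ≫ ψ) := by
    constructor
    · rintro ⟨w, hw⟩
      exact ⟨_, (key w).1 hw⟩
    · rintro ⟨w, hw⟩
      refine ⟨(bcPointEquiv X.hom H' _).symm (θ X.hom Y ≫ w), (key _).2 ?_⟩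
      rwa [MulEquiv.apply_symm_apply, IsIso.inv_hom_id_assoc]
  have hleY : Le ((H ◁ pr X Y) ≫ φ) ((H' ◁ pr X Y) ≫ ψ) ↔ Le ((H ◁ g) ≫ φ) ((H' ◁ g) ≫ ψ) := by
    constructor
    · intro h
      have := h.comp e.inv
      rwa [← whiskerLeft_comp_assoc, ← whiskerLeft_comp_assoc, ← he, e.inv_hom_id_assoc] at this
    · intro h
      have := h.comp e.hom
      rwa [← whiskerLeft_comp_assoc, ← whiskerLeft_comp_assoc, he] at this
  rw [← hleY, ← hfac, ← hE Y t]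
  constructor
  · rintro ⟨z, hz⟩
    let z' : Y ⟶ E := Over.homMk z.left (congrArg CommaMorphism.left hz)
    exact ⟨z', toUnit_unique _ _⟩
  · rintro ⟨z, -⟩
    refine ⟨e.inv ≫ (Over.map X.hom).map z, ?_⟩
    rw [Category.assoc, show (Over.map X.hom).map z ≫ j' = pr X Y from Over.OverMorphism.ext (Over.w z),
      ← he, e.inv_hom_id_assoc]

end Groth.Misc15.MTSub
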