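import Groth.Agent.Misc15.MTSub.Char
import Groth.Agent.Misc15.MTSub.Locus
import Groth.Agent.AlgSp2.SmoothDescent

/-!
The étale equivalence relation of having the same subgroup.
-/

set_option autoImplicit false
set_option linter.style.haveILetI false
universe u

open CategoryTheory CategoryTheory.Limits MonoidalCategory CartesianMonoidalCategory MonObj AlgebraicGeometry
open Groth.Reductive Groth.Reductive.MTInt

noncomputable section

namespace Groth.Misc15.MTSub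

variable {S : Scheme.{u}} {G : Over S} [GrpObj G]

/-- Transport of a family along a map of character groups. -/
def dsFam {M N : Type} [AddCommGroup M] [AddCommGroup N] (e : N →+ M) {X : Over S}
    (ψ : Red.DS S N ⊗ X ⟶ G) : Red.DS S M ⊗ X ⟶ G :=
  (dsHom S e ▷ X) ≫ ψ

theorem lift_dsFam {M N : Type} [AddCommGroup M] [AddCommGroup N] (e : N →+ M) {X W : Over S}
    (ψ : Red.DS S N ⊗ X ⟶ G) (h : W ⟶ Red.DS S M) (t : W ⟶ X) :
    lift h t ≫ dsFam e ψ = lift (h ≫ dsHom S e) t ≫ ψ := by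
  rw [dsFam, ← Category.assoc]
  congr 1
  ext1 <;> simp

theorem whiskerLeft_dsFam {M N : Type} [AddCommGroup M] [AddCommGroup N] (e : N →+ M) {X X' : Over S}
    (ψ : Red.DS S N ⊗ X ⟶ G) (a : X' ⟶ X) :
    (Red.DS S M ◁ a) ≫ dsFam e ψ = dsFam e ((Red.DS S N ◁ a) ≫ ψ) := by
  rw [dsFam, dsFam, whisker_exchange_assoc]

theorem dsFam_comp {M N K : Type} [AddCommGroup M] [AddCommGroup N] [AddCommGroup K] (f : N →+ M)
    (g : K →+ N) {X : Over S} (ψ : Red.DS S K ⊗ X ⟶ G) : dsFam f (dsFam g ψ) = dsFam (f.comp g) ψ := by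
  rw [dsFam, dsFam, dsFam, ← dsHom_comp_dsHom, comp_whiskerRight, Category.assoc]

theorem dsFam_id {M : Type} [AddCommGroup M] {X : Over S} (ψ : Red.DS S M ⊗ X ⟶ G) :
    dsFam (AddMonoidHom.id M) ψ = ψ := by
  rw [dsFam, dsHom_id, id_whiskerRight, Category.id_comp]

variable {M N : Type} [AddCommGroup M] [AddCommGroup N] {X : Over S}

theorem isHomFamily_dsFam (e : N →+ M) {ψ : Red.DS S N ⊗ X ⟶ G}
    (hψ : AutFam.IsHomFamily (Red.DS S N) G ψ) : AutFam.IsHomFamily (Red.DS S M) G (dsFam e ψ) :=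
  fun W h h' t => by
    rw [lift_dsFam, lift_dsFam, lift_dsFam, dsHom_mul]
    exact hψ _ _ _ _

theorem injF_dsFam (e : N ≃+ M) {ψ : Red.DS S N ⊗ X ⟶ G} (hi : InjF ψ) :
    InjF (dsFam e.toAddMonoidHom ψ) := fun W t h he => by
  rw [lift_dsFam] at he
  refine dsVal_ext fun m => ?_
  obtain ⟨n, rfl⟩ := (AddEquiv.toMultiplicative e).surjective m
  have h1 := congrArg (fun x => dsVal x n) (hi W t _ he)
  simp only [dsVal_comp_dsHom] at h1
  refine h1.trans ?_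
  show dsValHom (1 : W ⟶ Red.DS S N) n = dsValHom (1 : W ⟶ Red.DS S M) _
  rw [show dsValHom (1 : W ⟶ Red.DS S N) = 1 from map_one (dsValEquiv N W),
    show dsValHom (1 : W ⟶ Red.DS S M) = 1 from map_one (dsValEquiv M W), MonoidHom.one_apply,
    MonoidHom.one_apply]

theorem img_dsFam (e : N ≃+ M) (ψ : Red.DS S N ⊗ X ⟶ G) {W : Over S} (t : W ⟶ X) (g : W ⟶ G) :
    Img (dsFam e.toAddMonoidHom ψ) t g ↔ Img ψ t g := by
  constructor
  · rintro ⟨h, rfl⟩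
    exact ⟨h ≫ dsHom S e.toAddMonoidHom, (lift_dsFam _ _ _ _).symm⟩
  · rintro ⟨h, rfl⟩
    refine ⟨h ≫ dsHom S e.symm.toAddMonoidHom, ?_⟩
    rw [lift_dsFam, Category.assoc, dsHom_comp_dsHom,
      show e.symm.toAddMonoidHom.comp e.toAddMonoidHom = AddMonoidHom.id N from
        AddMonoidHom.ext fun x => e.symm_apply_apply x, dsHom_id, Category.comp_id]

/-- Two parametrisations of one family of subgroups differ near every point by an isomorphism of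
character groups. -/
theorem exists_comparison [AddGroup.FG M] [AddGroup.FG N] {φ : Red.DS S M ⊗ X ⟶ G} {ψ : Red.DS S N ⊗ X ⟶ G}
    (hφ : AutFam.IsHomFamily (Red.DS S M) G φ) (hψ : AutFam.IsHomFamily (Red.DS S N) G ψ)
    (hφi : InjF φ) (hψi : InjF ψ)
    (himg : ∀ (W : Over S) (t : W ⟶ X) (g : W ⟶ G), Img φ t g ↔ Img ψ t g) (x : X.left) :
    ∃ (W : X.left.Opens) (e : N ≃+ M), x ∈ W ∧ IsAffineOpen W ∧
      (Red.DS S M ◁ opnIncl X W) ≫ φ = dsFam e.toAddMonoidHom ((Red.DS S N ◁ opnIncl X W) ≫ ψ) := by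
  obtain ⟨h, hh⟩ := (le_iff φ ψ).2 fun W t g => (himg W t g).1
  obtain ⟨h', hh'⟩ := (le_iff ψ φ).2 fun W t g => (himg W t g).2
  have hhom : ∀ {P Q : Type} [AddCommGroup P] [AddCommGroup Q] {φ : Red.DS S P ⊗ X ⟶ G}
      {ψ : Red.DS S Q ⊗ X ⟶ G} (_ : AutFam.IsHomFamily (Red.DS S P) G φ)
      (_ : AutFam.IsHomFamily (Red.DS S Q) G ψ) (_ : InjF ψ) {h : Red.DS S P ⊗ X ⟶ Red.DS S Q}
      (_ : lift h (snd _ X) ≫ ψ = φ), AutFam.IsHomFamily (Red.DS S P) (Red.DS S Q) h := by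
    intro P Q _ _ φ ψ hφ hψ hψi h hh W a b t
    have hc : ∀ c : W ⟶ Red.DS S P, lift c t ≫ φ = lift (lift c t ≫ h) t ≫ ψ := fun c => by
      rw [← hh, comp_lift_assoc, lift_snd]
    refine hψi.eq hψ t ?_
    rw [hψ, ← hc, ← hc, ← hc]
    exact hφ W a b t
  have hcomp : ∀ {P Q : Type} [AddCommGroup P] [AddCommGroup Q] {φ : Red.DS S P ⊗ X ⟶ G}
      {ψ : Red.DS S Q ⊗ X ⟶ G} (_ : AutFam.IsHomFamily (Red.DS S P) G φ) (_ : InjF φ)
      {h : Red.DS S P ⊗ X ⟶ Red.DS S Q} {h' : Red.DS S Q ⊗ X ⟶ Red.DS S P}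
      (_ : lift h (snd _ X) ≫ ψ = φ) (_ : lift h' (snd _ X) ≫ φ = ψ)
      {W : Over S} (c : W ⟶ Red.DS S P) (t : W ⟶ X),
      lift (lift c t ≫ h) t ≫ h' = c := by
    intro P Q _ _ φ ψ hφ hφi h h' hh hh' W c t
    refine hφi.eq hφ t ?_
    conv_rhs => rw [← hh]
    rw [comp_lift_assoc, lift_snd]
    conv_rhs => rw [← hh']
    rw [comp_lift_assoc, lift_snd]
  obtain ⟨W₀, hW₀, hxW₀, -⟩ := exists_isAffineOpen_mem_and_subset (U := (⊤ : X.left.Opens))
    (show x ∈ (⊤ : X.left.Opens) from trivial)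
  let Y := opnOb X W₀
  let iY : Y ⟶ X := opnIncl X W₀
  haveI : IsAffine Y.left := hW₀
  have hloc : ∀ {P Q : Type} [AddCommGroup P] [AddCommGroup Q] [AddGroup.FG Q]
      {k : Red.DS S P ⊗ X ⟶ Red.DS S Q}, AutFam.IsHomFamily (Red.DS S P) (Red.DS S Q) k →
      ∃ (O : Y.left.Opens) (a : Multiplicative Q →* Multiplicative P), (⟨x, hxW₀⟩ : W₀) ∈ O ∧
        ∀ (Z : Over S) (z : Z ⟶ Y), Set.range z.left ⊆ (O : Set Y.left) →
          ∀ c : Z ⟶ Red.DS S P, dsValHom (lift c (z ≫ iY) ≫ k) = (dsValHom c).comp a := by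
    intro P Q _ _ _ k hk
    haveI : AddGroup.FG (dsTriv Q Y).M := ‹AddGroup.FG Q›
    obtain ⟨O, a, hO, ha⟩ := exists_locConst (dsTriv P Y) (dsTriv Q Y) ((Red.DS S P ◁ iY) ≫ k)
      (isHomFamily_whisker hk iY) (⟨x, hxW₀⟩ : W₀)
    refine ⟨O, a, hO, fun Z z hz c => ?_⟩
    have := ha Z z hz c
    rw [lift_whiskerLeft_assoc] at this
    exact this
  obtain ⟨O₁, a, hO₁, ha⟩ := hloc (hhom hφ hψ hψi hh)
  obtain ⟨O₂, a', hO₂, ha'⟩ := hloc (hhom hψ hφ hφi hh')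
  obtain ⟨W, hW, hxW, hWle⟩ := exists_isAffineOpen_mem_and_subset
    (U := W₀.ι ''ᵁ (O₁ ⊓ O₂)) (show x ∈ W₀.ι ''ᵁ (O₁ ⊓ O₂) from ⟨⟨x, hxW₀⟩, ⟨hO₁, hO₂⟩, rfl⟩)
  have hWW₀ : W ≤ W₀ := fun w hw => by
    obtain ⟨v, -, rfl⟩ := hWle hw
    exact v.2
  let Y' := opnOb X W
  let z : Y' ⟶ Y := Over.homMk (X.left.homOfLE hWW₀) (by
    show _ ≫ W₀.ι ≫ X.hom = W.ι ≫ X.hom
    rw [Scheme.homOfLE_ι_assoc])
  have hz : z ≫ iY = opnIncl X W := Over.OverMorphism.ext (Scheme.homOfLE_ι X.left hWW₀)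
  have hzr : ∀ w, z.left w ∈ (O₁ ⊓ O₂ : Y.left.Opens) := fun w => by
    obtain ⟨v, hv, hvw⟩ := hWle w.2
    have e : W₀.ι v = W₀.ι (z.left w) := by
      refine hvw.trans ?_
      rw [← Scheme.Hom.comp_apply]
      show _ = (X.left.homOfLE hWW₀ ≫ W₀.ι) w
      rw [Scheme.homOfLE_ι]
      rfl
    rwa [← W₀.ι.isOpenEmbedding.injective e]
  have hval : ∀ (Z : Over S) (t : Z ⟶ Y') (c : Z ⟶ Red.DS S M),
      dsValHom (lift c (t ≫ opnIncl X W) ≫ h) = (dsValHom c).comp a := fun Z t c => by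
    rw [← hz, ← Category.assoc]
    refine ha Z (t ≫ z) ?_ c
    rintro _ ⟨w, rfl⟩
    exact (hzr (t.left w)).1
  have hval' : ∀ (Z : Over S) (t : Z ⟶ Y') (c : Z ⟶ Red.DS S N),
      dsValHom (lift c (t ≫ opnIncl X W) ≫ h') = (dsValHom c).comp a' := fun Z t c => by
    rw [← hz, ← Category.assoc]
    refine ha' Z (t ≫ z) ?_ c
    rintro _ ⟨w, rfl⟩
    exact (hzr (t.left w)).2
  haveI : IsAffine Y'.left := hW
  haveI : Nonempty Y'.left := ⟨(⟨x, hxW⟩ : W)⟩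
  have h1 : a.comp a' = MonoidHom.id _ := by
    refine charHom_ext (dsTriv M Y') (a.comp a') (MonoidHom.id (Multiplicative M)) fun n => ?_
    show dsValHom (fst (Red.DS S M) Y') (a (a' n)) = dsValHom (fst (Red.DS S M) Y') n
    conv_rhs => rw [← hcomp hφ hφi hh hh' (fst (Red.DS S M) Y') (snd (Red.DS S M) Y' ≫ opnIncl X W),
      hval' _ (snd (Red.DS S M) Y'), hval _ (snd (Red.DS S M) Y')]
    rfl
  have h2 : a'.comp a = MonoidHom.id _ := by
    refine charHom_ext (dsTriv N Y') (a'.comp a) (MonoidHom.id (Multiplicative N)) fun n => ?_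
    show dsValHom (fst (Red.DS S N) Y') (a' (a n)) = dsValHom (fst (Red.DS S N) Y') n
    conv_rhs => rw [← hcomp hψ hψi hh' hh (fst (Red.DS S N) Y') (snd (Red.DS S N) Y' ≫ opnIncl X W),
      hval _ (snd (Red.DS S N) Y'), hval' _ (snd (Red.DS S N) Y')]
    rfl
  let e : N ≃+ M := MonoidHom.toMulEquiv a a' h2 h1 |> (AddEquiv.toMultiplicative).symm
  refine ⟨W, e, hxW, hW, ?_⟩
  have hhW : (Red.DS S M ◁ opnIncl X W) ≫ h = fst _ _ ≫ dsHom S e.toAddMonoidHom := by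
    refine dsVal_ext fun n => ?_
    rw [dsVal_comp_dsHom]
    have h3 := DFunLike.congr_fun (hval _ (snd (Red.DS S M) Y') (fst _ _)) n
    rw [show lift (fst (Red.DS S M) Y') (snd (Red.DS S M) Y' ≫ opnIncl X W) =
      Red.DS S M ◁ opnIncl X W by ext1 <;> simp [Y']] at h3
    exact h3
  rw [← hh, dsFam, comp_lift_assoc, hhW, whiskerLeft_snd]
  rw [← Category.assoc (dsHom S _ ▷ _)]
  congr 1
  ext1 <;> simp

namespace Pieces

variable (D : Pieces G)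

/-- An isomorphism of indices. -/
structure Arr : Type u where
  /-- the source -/
  i : Idx.{u}
  /-- the target -/
  k : Idx.{u}
  /-- the isomorphism -/
  e : k.Λ ≃+ i.Λ

theorem exists_sigma (α : Arr.{u}) : ∃ s : D.P α.k ⟶ D.P α.i,
    (D.H α.i ◁ s) ≫ D.υ α.i = dsFam α.e.toAddMonoidHom (D.υ α.k) :=
  by
  obtain hk | hk := isEmpty_or_nonempty (D.P α.k).left
  · refine ⟨Over.homMk ((isInitialOfIsEmpty (X := (D.P α.k).left)).to _)
      ((isInitialOfIsEmpty (X := (D.P α.k).left)).hom_ext _ _), ?_⟩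
    haveI : IsEmpty (D.H α.i ⊗ D.P α.k).left := ⟨fun y => hk.false ((snd (D.H α.i) (D.P α.k)).left y)⟩
    exact Over.OverMorphism.ext ((isInitialOfIsEmpty (X := (D.H α.i ⊗ D.P α.k).left)).hom_ext _ _)
  · exact (D.classify α.i (D.ok_of_equiv _ _ α.e (D.ok_of_nonempty α.k hk)) _ _
      (isHomFamily_dsFam _ (D.hom α.k)) (injF_dsFam α.e (D.inj α.k))).exists

/-- The change of parametrisation. -/
def σ (α : Arr.{u}) : D.P α.k ⟶ D.P α.i := (D.exists_sigma α).choose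

theorem σ_spec (α : Arr.{u}) : (D.H α.i ◁ D.σ α) ≫ D.υ α.i = dsFam α.e.toAddMonoidHom (D.υ α.k) :=
  (D.exists_sigma α).choose_spec

theorem σ_spec' (i k : Idx.{u}) (e : k.Λ ≃+ i.Λ) :
    (D.H i ◁ D.σ ⟨i, k, e⟩) ≫ D.υ i = dsFam e.toAddMonoidHom (D.υ k) := D.σ_spec ⟨i, k, e⟩

theorem σ_comp_symm (i k : Idx.{u}) (e : k.Λ ≃+ i.Λ) : D.σ ⟨i, k, e⟩ ≫ D.σ ⟨k, i, e.symm⟩ = 𝟙 _ := by
  refine D.eq_of_family ?_
  rw [whiskerLeft_comp_assoc, D.σ_spec ⟨k, i, e.symm⟩, whiskerLeft_dsFam, D.σ_spec ⟨i, k, e⟩, dsFam_comp,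
    show e.symm.toAddMonoidHom.comp e.toAddMonoidHom = AddMonoidHom.id k.Λ from
      AddMonoidHom.ext fun x => e.symm_apply_apply x, dsFam_id, whiskerLeft_id, Category.id_comp]

instance isIso_σ (α : Arr.{u}) : IsIso (D.σ α) :=
  ⟨D.σ ⟨α.k, α.i, α.e.symm⟩, D.σ_comp_symm α.i α.k α.e, by
    have := D.σ_comp_symm α.k α.i α.e.symm
    rwa [AddEquiv.symm_symm] at this⟩

/-- The relation. -/
def R : Over S := Over.mk (Limits.Sigma.desc fun α : Arr.{u} => (D.P α.k).hom)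

/-- The inclusion of a component of the relation. -/
def incR (α : Arr.{u}) : D.P α.k ⟶ D.R :=
  Over.homMk (Sigma.ι (fun α : Arr.{u} => (D.P α.k).left) α) (Sigma.ι_desc _ _)

/-- The first projection. -/
def tR : D.R ⟶ D.U :=
  Over.homMk (Limits.Sigma.desc fun α : Arr.{u} => (D.inc α.k).left) (by
    show Limits.Sigma.desc _ ≫ D.U.hom = Limits.Sigma.desc _
    refine Sigma.hom_ext _ _ fun α => ?_
    rw [Sigma.ι_desc_assoc, Sigma.ι_desc]
    exact Over.w (D.inc α.k))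

/-- The second projection. -/
def sR : D.R ⟶ D.U :=
  Over.homMk (Limits.Sigma.desc fun α : Arr.{u} => (D.σ α ≫ D.inc α.i).left) (by
    show Limits.Sigma.desc _ ≫ D.U.hom = Limits.Sigma.desc _
    refine Sigma.hom_ext _ _ fun α => ?_
    rw [Sigma.ι_desc_assoc, Sigma.ι_desc]
    exact Over.w (D.σ α ≫ D.inc α.i))

theorem incR_tR (α : Arr.{u}) : D.incR α ≫ D.tR = D.inc α.k :=
  Over.OverMorphism.ext (Sigma.ι_desc (fun α : Arr.{u} => (D.inc α.k).left) α)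

theorem incR_sR (α : Arr.{u}) : D.incR α ≫ D.sR = D.σ α ≫ D.inc α.i :=
  Over.OverMorphism.ext (Sigma.ι_desc (fun α : Arr.{u} => (D.σ α ≫ D.inc α.i).left) α)

instance etale_tR : Etale D.tR.left :=
  IsZariskiLocalAtSource.sigmaDesc (P := @Etale) fun α => inferInstanceAs (Etale (D.inc α.k).left)

instance etale_sR : Etale D.sR.left :=
  IsZariskiLocalAtSource.sigmaDesc (P := @Etale) fun α => by
    haveI : IsIso (D.σ α).left := inferInstanceAs (IsIso ((Over.forget S).map (D.σ α)))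
    rw [Over.comp_left]
    infer_instance

theorem incR_surjective (x : D.R.left) : ∃ (α : Arr.{u}) (y : (D.P α.k).left), (D.incR α).left y = x := by
  obtain ⟨⟨α, y⟩, rfl⟩ := (sigmaMk (fun α : Arr.{u} => (D.P α.k).left)).surjective x
  exact ⟨α, y, (sigmaMk_mk (fun α : Arr.{u} => (D.P α.k).left) α y).symm⟩

theorem exists_local_R {Z : Over S} (r : Z ⟶ D.R) (z : Z.left) (O : Z.left.Opens) (hO : z ∈ O) :
    ∃ (α : Arr.{u}) (W : Z.left.Opens) (r' : opnOb Z W ⟶ D.P α.k), z ∈ W ∧ IsAffineOpen W ∧ W ≤ O ∧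
      r' ≫ D.incR α = opnIncl Z W ≫ r := by
  obtain ⟨α, y, hy⟩ := D.incR_surjective (r.left z)
  haveI : IsOpenImmersion (D.incR α).left :=
    inferInstanceAs (IsOpenImmersion (Sigma.ι (fun α : Arr.{u} => (D.P α.k).left) α))
  obtain ⟨W, hW, hzW, hWle⟩ := exists_isAffineOpen_mem_and_subset
    (U := r.left ⁻¹ᵁ (D.incR α).left.opensRange ⊓ O) ⟨⟨y, hy⟩, hO⟩
  have hr : Set.range (W.ι ≫ r.left) ⊆ Set.range (D.incR α).left := by
    rintro _ ⟨w, rfl⟩
    exact (hWle w.2).1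
  let r' : opnOb Z W ⟶ D.P α.k := Over.homMk (IsOpenImmersion.lift (D.incR α).left (W.ι ≫ r.left) hr) (by
    show _ ≫ (D.P α.k).hom = W.ι ≫ Z.hom
    rw [← Over.w (D.incR α), IsOpenImmersion.lift_fac_assoc, Category.assoc, Over.w r])
  exact ⟨α, W, r', hzW, hW, fun w hw => (hWle hw).2,
    Over.OverMorphism.ext (IsOpenImmersion.lift_fac _ _ _)⟩

theorem arr_ext {X : Over S} [IsAffine X.left] [Nonempty X.left] (i k : Idx.{u}) (e e' : k.Λ ≃+ i.Λ)
    (b : X ⟶ D.P k) (h : b ≫ D.σ ⟨i, k, e⟩ = b ≫ D.σ ⟨i, k, e'⟩) : e = e' := by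
  have h1 := congrArg (fun c => lift (fst _ _) (snd _ _) ≫ (D.H i ◁ c) ≫ D.υ i) h
  simp only [whiskerLeft_comp, Category.assoc, D.σ_spec', whiskerLeft_dsFam, lift_dsFam] at h1
  have h2 := InjF.eq ((D.inj k).comp b) (isHomFamily_whisker (D.hom k) b) _ h1
  have h3 : AddMonoidHom.toMultiplicative e.toAddMonoidHom = AddMonoidHom.toMultiplicative e'.toAddMonoidHom :=
    charHom_ext (dsTriv i.Λ X) _ _ fun n => by
      have h4 := congrArg (fun x => dsVal x n) h2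
      simp only [dsVal_comp_dsHom] at h4
      exact h4
  ext x
  exact congrArg Multiplicative.toAdd (DFunLike.congr_fun h3 (Multiplicative.ofAdd x))

theorem mono_qU_pU : Mono (lift D.qU D.pU) := by
  refine ⟨fun {Z} k k' h => ?_⟩
  have hq : k ≫ D.qU = k' ≫ D.qU := by simpa using congrArg (· ≫ fst _ _) h
  have hp : k ≫ D.pU = k' ≫ D.pU := by simpa using congrArg (· ≫ snd _ _) h
  refine Over.OverMorphism.ext ?_
  choose i W t hz hW hle ht using fun z => D.exists_local (k ≫ D.qU) z ⊤ trivial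
  refine Scheme.Cover.hom_ext (Scheme.openCoverOfIsOpenCover _ W (.mk (top_unique fun z _ =>
    TopologicalSpace.Opens.mem_iSup.mpr ⟨z, hz z⟩))) _ _ fun z => ?_
  show (W z).ι ≫ k.left = (W z).ι ≫ k'.left
  have hpb := D.isPullback_incK (i z)
  let l := hpb.lift (opnIncl Z (W z) ≫ k) (t z) (by rw [Category.assoc, ← ht z])
  let l' := hpb.lift (opnIncl Z (W z) ≫ k') (t z) (by rw [Category.assoc, ← hq, ← ht z])
  have hl : ∀ {m : opnOb Z (W z) ⟶ D.H (i z) ⊗ D.P (i z)}, m ≫ snd _ _ = t z →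
      m = lift (m ≫ fst _ _) (t z) := fun hm => by
    ext1
    · simp
    · simpa using hm
  have e : l ≫ fst _ _ = l' ≫ fst _ _ := (D.inj (i z)).eq (D.hom (i z)) (t z) (by
    rw [← hl (hpb.lift_snd _ _ _), ← hl (hpb.lift_snd _ _ _), ← D.incK_pU]
    rw [show l ≫ D.incK (i z) ≫ D.pU = opnIncl Z (W z) ≫ k ≫ D.pU by
        rw [← Category.assoc, hpb.lift_fst, Category.assoc],
      show l' ≫ D.incK (i z) ≫ D.pU = opnIncl Z (W z) ≫ k' ≫ D.pU by
        rw [← Category.assoc, hpb.lift_fst, Category.assoc], hp])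
  have e' : l = l' := by
    exact (hl (hpb.lift_snd _ _ _)).trans ((congrArg (lift · (t z)) e).trans (hl (hpb.lift_snd _ _ _)).symm)
  have := congrArg (fun m => m ≫ D.incK (i z)) e'
  simp only [l, l', hpb.lift_fst] at this
  exact congrArg CommaMorphism.left this

end Pieces

/-- Lifts along monomorphisms are local. -/
theorem exists_lift_of_local {Z A B : Over S} (i : A ⟶ B) [Mono i] (t : Z ⟶ B)
    (h : ∀ z : Z.left, ∃ W : Z.left.Opens, z ∈ W ∧ ∃ q : opnOb Z W ⟶ A, q ≫ i = opnIncl Z W ≫ t) :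
    ∃ q : Z ⟶ A, q ≫ i = t := by
  choose W hz q hq using h
  haveI : Mono i.left := inferInstanceAs (Mono ((Over.forget S).map i))
  obtain ⟨l, hl⟩ := exists_glue_of_mono (Scheme.openCoverOfIsOpenCover _ W (.mk (top_unique fun z _ =>
    TopologicalSpace.Opens.mem_iSup.mpr ⟨z, hz z⟩))) i.left t.left
    fun z => ⟨(q z).left, congrArg CommaMorphism.left (hq z)⟩
  exact ⟨Over.homMk l (by rw [← Over.w i, ← Category.assoc, hl]; exact Over.w t), Over.OverMorphism.ext hl⟩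

namespace Pieces

variable (D : Pieces G)

theorem pts_of_local {Z : Over S} (z : Z ⟶ D.U) (g : Z ⟶ G)
    (h : ∀ x : Z.left, ∃ W : Z.left.Opens, x ∈ W ∧ D.Pts (opnIncl Z W ≫ z) (opnIncl Z W ≫ g)) :
    D.Pts z g := by
  haveI := D.mono_qU_pU
  obtain ⟨k, hk⟩ := exists_lift_of_local (lift D.qU D.pU) (lift z g) fun x => by
    obtain ⟨W, hx, k, hk₁, hk₂⟩ := h x
    exact ⟨W, hx, k, by ext1 <;> simp [hk₁, hk₂]⟩
  exact ⟨k, by simpa using congrArg (· ≫ fst _ _) hk, by simpa using congrArg (· ≫ snd _ _) hk⟩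

theorem same_of_local {X : Over S} (a b : X ⟶ D.U)
    (h : ∀ x : X.left, ∃ W : X.left.Opens, x ∈ W ∧ D.Same (opnIncl X W ≫ a) (opnIncl X W ≫ b)) :
    D.Same a b := by
  intro Z t g
  have key : ∀ a b : X ⟶ D.U, (∀ x : X.left, ∃ W : X.left.Opens, x ∈ W ∧
      D.Same (opnIncl X W ≫ a) (opnIncl X W ≫ b)) → D.Pts (t ≫ a) g → D.Pts (t ≫ b) g := by
    rintro a b h ⟨k, hk₁, hk₂⟩
    refine D.pts_of_local _ _ fun z => ?_
    obtain ⟨W, hW, hs⟩ := h (t.left z)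
    refine ⟨t.left ⁻¹ᵁ W, hW, ?_⟩
    let c : opnOb Z (t.left ⁻¹ᵁ W) ⟶ opnOb X W := Over.homMk (t.left ∣_ W) (by
      show _ ≫ W.ι ≫ X.hom = (t.left ⁻¹ᵁ W).ι ≫ Z.hom
      rw [morphismRestrict_ι_assoc, Over.w t])
    have hc : c ≫ opnIncl X W = opnIncl Z (t.left ⁻¹ᵁ W) ≫ t :=
      Over.OverMorphism.ext (morphismRestrict_ι t.left W)
    rw [← Category.assoc, ← hc, Category.assoc]
    refine (hs _ c _).1 ⟨opnIncl Z (t.left ⁻¹ᵁ W) ≫ k, ?_, ?_⟩
    · rw [Category.assoc, hk₁, ← Category.assoc c, hc, Category.assoc]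
    · rw [Category.assoc, hk₂]
  exact ⟨key a b h, key b a fun x => (h x).imp fun W hW => ⟨hW.1, hW.2.symm⟩⟩

theorem same_σ (α : Arr.{u}) {X : Over S} (c : X ⟶ D.P α.k) :
    D.Same (c ≫ D.inc α.k) ((c ≫ D.σ α) ≫ D.inc α.i) := by
  refine (same_inc_iff _ _).2 fun Z t g => ?_
  rw [whiskerLeft_comp_assoc, D.σ_spec, whiskerLeft_dsFam, img_dsFam]

theorem same_tR_sR : D.Same D.tR D.sR := by
  refine D.same_of_local _ _ fun x => ?_
  obtain ⟨α, W, r, hx, -, -, hr⟩ := D.exists_local_R (𝟙 D.R) x ⊤ trivial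
  rw [Category.comp_id] at hr
  refine ⟨W, hx, ?_⟩
  rw [← hr, Category.assoc, Category.assoc, D.incR_tR, D.incR_sR, ← Category.assoc r]
  exact D.same_σ α r

theorem mono_lift_tR_sR : Mono (lift D.tR D.sR) := by
  refine ⟨fun {Z} r r' h => ?_⟩
  have ht : r ≫ D.tR = r' ≫ D.tR := by simpa using congrArg (· ≫ fst _ _) h
  have hs : r ≫ D.sR = r' ≫ D.sR := by simpa using congrArg (· ≫ snd _ _) h
  refine Over.OverMorphism.ext ?_
  choose α W₁ r₁ hz₁ hW₁ hle₁ hr₁ using fun z => D.exists_local_R r z ⊤ trivial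
  choose β W r₂ hz hW hle hr₂ using fun z => D.exists_local_R r' z (W₁ z) (hz₁ z)
  refine Scheme.Cover.hom_ext (Scheme.openCoverOfIsOpenCover _ W (.mk (top_unique fun z _ =>
    TopologicalSpace.Opens.mem_iSup.mpr ⟨z, hz z⟩))) _ _ fun z => ?_
  show (W z).ι ≫ r.left = (W z).ι ≫ r'.left
  let j : opnOb Z (W z) ⟶ opnOb Z (W₁ z) := Over.homMk (Z.left.homOfLE (hle z)) (by
    show _ ≫ (W₁ z).ι ≫ Z.hom = (W z).ι ≫ Z.hom
    rw [Scheme.homOfLE_ι_assoc])
  have hj : j ≫ opnIncl Z (W₁ z) = opnIncl Z (W z) := Over.OverMorphism.ext (Scheme.homOfLE_ι Z.left (hle z))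
  haveI : IsAffine (opnOb Z (W z)).left := hW z
  haveI : Nonempty (opnOb Z (W z)).left := ⟨(⟨z, hz z⟩ : W z)⟩
  suffices key : ∀ (α β : Arr.{u}) (c : opnOb Z (W z) ⟶ D.P α.k) (c' : opnOb Z (W z) ⟶ D.P β.k),
      c ≫ D.incR α ≫ D.tR = c' ≫ D.incR β ≫ D.tR → c ≫ D.incR α ≫ D.sR = c' ≫ D.incR β ≫ D.sR →
      c ≫ D.incR α = c' ≫ D.incR β by
    have e1 : (j ≫ r₁ z) ≫ D.incR (α z) = opnIncl Z (W z) ≫ r := by
      rw [Category.assoc, hr₁ z, ← Category.assoc, hj]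
    have e2 := key (α z) (β z) (j ≫ r₁ z) (r₂ z)
      (by rw [← Category.assoc, e1, Category.assoc, ← Category.assoc (r₂ z), hr₂ z, Category.assoc, ht])
      (by rw [← Category.assoc, e1, Category.assoc, ← Category.assoc (r₂ z), hr₂ z, Category.assoc, hs])
    rw [e1, hr₂ z] at e2
    exact congrArg CommaMorphism.left e2
  rintro ⟨i, k, e⟩ ⟨i', k', e'⟩ c c' h1 h2
  rw [D.incR_tR, D.incR_tR] at h1
  rw [D.incR_sR, D.incR_sR, ← Category.assoc, ← Category.assoc] at h2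
  obtain rfl := D.idx_eq h1
  obtain rfl := (cancel_mono (D.inc k)).1 h1
  obtain rfl := D.idx_eq h2
  obtain rfl := D.arr_ext i k e e' c ((cancel_mono (D.inc i)).1 h2)
  rfl

/-- Points with the same subgroup are related. -/
theorem exists_rel {X : Over S} {a b : X ⟶ D.U} (h : D.Same a b) :
    ∃ r : X ⟶ D.R, r ≫ D.tR = a ∧ r ≫ D.sR = b := by
  haveI := D.mono_lift_tR_sR
  obtain ⟨r, hr⟩ := exists_lift_of_local (lift D.tR D.sR) (lift a b) fun x => by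
    obtain ⟨k, W₁, a₁, hx₁, -, -, ha₁⟩ := D.exists_local a x ⊤ trivial
    obtain ⟨i, W, b₁, hx, -, hle, hb₁⟩ := D.exists_local b x W₁ hx₁
    let j : opnOb X W ⟶ opnOb X W₁ := Over.homMk (X.left.homOfLE hle) (by
      show _ ≫ W₁.ι ≫ X.hom = W.ι ≫ X.hom
      rw [Scheme.homOfLE_ι_assoc])
    have hj : j ≫ opnIncl X W₁ = opnIncl X W := Over.OverMorphism.ext (Scheme.homOfLE_ι X.left hle)
    have ha : (j ≫ a₁) ≫ D.inc k = opnIncl X W ≫ a := by
      rw [Category.assoc, ha₁, ← Category.assoc, hj]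
    have hs : D.Same (b₁ ≫ D.inc i) ((j ≫ a₁) ≫ D.inc k) := by
      rw [ha, hb₁]; exact h.symm.comp _
    refine ⟨W, hx, exists_lift_of_local (lift D.tR D.sR) (opnIncl X W ≫ lift a b) fun y => ?_⟩
    obtain ⟨V, e, hy, -, hV⟩ := exists_comparison (isHomFamily_whisker (D.hom i) b₁)
      (isHomFamily_whisker (D.hom k) (j ≫ a₁)) ((D.inj i).comp b₁) ((D.inj k).comp (j ≫ a₁))
      ((same_inc_iff _ _).1 hs) y
    let α : Arr.{u} := ⟨i, k, e⟩
    refine ⟨V, hy, (opnIncl _ V ≫ j ≫ a₁) ≫ D.incR α, ?_⟩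
    have hσ : (opnIncl _ V ≫ j ≫ a₁) ≫ D.σ α = opnIncl _ V ≫ b₁ := by
      refine D.eq_of_family ?_
      rw [whiskerLeft_comp_assoc, D.σ_spec α, whiskerLeft_dsFam]
      simp only [whiskerLeft_comp, Category.assoc] at hV ⊢
      exact hV.symm
    ext1
    · simp only [Category.assoc, lift_fst, D.incR_tR]
      exact congrArg (opnIncl (opnOb X W) V ≫ ·) ((Category.assoc j a₁ (D.inc k)).symm.trans ha)
    · simp only [Category.assoc, lift_snd, D.incR_sR]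
      calc opnIncl (opnOb X W) V ≫ j ≫ a₁ ≫ D.σ α ≫ D.inc i
          = ((opnIncl (opnOb X W) V ≫ j ≫ a₁) ≫ D.σ α) ≫ D.inc i := by simp only [Category.assoc]
        _ = opnIncl (opnOb X W) V ≫ opnIncl X W ≫ b := by rw [hσ, Category.assoc, hb₁]
  exact ⟨r, by simpa using congrArg (· ≫ fst _ _) hr, by simpa using congrArg (· ≫ snd _ _) hr⟩

theorem same_of_rel {X : Over S} (r : X ⟶ D.R) : D.Same (r ≫ D.tR) (r ≫ D.sR) := D.same_tR_sR.comp r

theorem isEqvRel : AlgSp.IsEqvRel D.sR D.tR where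
  injective T r r' ht hs := by
    haveI := D.mono_lift_tR_sR
    rw [← cancel_mono (lift D.tR D.sR)]
    ext1 <;> simp [ht, hs]
  equivalence T :=
    { refl := fun a => D.exists_rel (Same.refl a)
      symm := fun {a b} ⟨r, h1, h2⟩ => D.exists_rel (h1 ▸ h2 ▸ (D.same_of_rel r).symm)
      trans := fun {a b c} ⟨r, h1, h2⟩ ⟨r', h1', h2'⟩ => D.exists_rel
        ((h1 ▸ h2 ▸ D.same_of_rel r).trans (h1' ▸ h2' ▸ D.same_of_rel r')) }

theorem isClosedImmersion_lift (hGa : IsAffineHom G.hom) : IsClosedImmersion (lift D.tR D.sR).left := by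
  haveI := D.mono_lift_tR_sR
  have hcov : ∀ z : (D.U ⊗ D.U).left, ∃ (O : (D.U ⊗ D.U).left.Opens) (k i : Idx.{u})
      (x : opnOb (D.U ⊗ D.U) O ⟶ D.P k) (y : opnOb (D.U ⊗ D.U) O ⟶ D.P i), z ∈ O ∧
      x ≫ D.inc k = opnIncl _ O ≫ fst _ _ ∧ y ≫ D.inc i = opnIncl _ O ≫ snd _ _ := fun z => by
    obtain ⟨k, W₁, x, hz₁, -, -, hx⟩ := D.exists_local (fst D.U D.U) z ⊤ trivial
    obtain ⟨i, W, y, hz, -, hle, hy⟩ := D.exists_local (snd D.U D.U) z W₁ hz₁
    let j : opnOb (D.U ⊗ D.U) W ⟶ opnOb _ W₁ := Over.homMk ((D.U ⊗ D.U).left.homOfLE hle) (by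
      show _ ≫ W₁.ι ≫ (D.U ⊗ D.U).hom = W.ι ≫ (D.U ⊗ D.U).hom
      rw [Scheme.homOfLE_ι_assoc])
    refine ⟨W, k, i, j ≫ x, y, hz, ?_, hy⟩
    rw [Category.assoc, hx, ← Category.assoc]
    congr 1
    exact Over.OverMorphism.ext (Scheme.homOfLE_ι (D.U ⊗ D.U).left hle)
  choose O k i x y hz hx hy using hcov
  refine IsZariskiLocalAtTarget.of_openCover (P := @IsClosedImmersion)
    (Scheme.openCoverOfIsOpenCover _ O (.mk (top_unique fun z _ =>
      TopologicalSpace.Opens.mem_iSup.mpr ⟨z, hz z⟩))) fun z => ?_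
  let B := opnOb (D.U ⊗ D.U) (O z)
  obtain ⟨E₁, j₁, hj₁, hE₁⟩ := exists_leLocus (G := G) (locTriv_DS' (k z).Λ) (locTriv_DS' (i z).Λ) hGa
    ((D.H (k z) ◁ x z) ≫ D.υ (k z)) ((D.H (i z) ◁ y z) ≫ D.υ (i z))
    (isHomFamily_whisker (D.hom (i z)) (y z)) ((D.inj (i z)).comp (y z))
  obtain ⟨E, j₂, hj₂, hE₂⟩ := exists_leLocus (G := G) (locTriv_DS' (i z).Λ) (locTriv_DS' (k z).Λ) hGa
    ((D.H (i z) ◁ (j₁ ≫ y z)) ≫ D.υ (i z)) ((D.H (k z) ◁ (j₁ ≫ x z)) ≫ D.υ (k z))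
    (isHomFamily_whisker (D.hom (k z)) _) ((D.inj (k z)).comp _)
  let j : E ⟶ B := j₂ ≫ j₁
  haveI hj : IsClosedImmersion j.left := by
    haveI := hj₁
    haveI := hj₂
    exact inferInstanceAs (IsClosedImmersion (j₂.left ≫ j₁.left))
  have hsame : ∀ (Z : Over S) (g : Z ⟶ B), (∃ e, e ≫ j = g) ↔
      D.Same ((g ≫ opnIncl _ (O z)) ≫ fst _ _) ((g ≫ opnIncl _ (O z)) ≫ snd _ _) := by
    intro Z g
    rw [Category.assoc, Category.assoc, ← hx, ← hy, ← Category.assoc, ← Category.assoc, same_inc_iff]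
    constructor
    · rintro ⟨e, rfl⟩ W t q
      have h1 := (hE₁ E₁ j₁).1 ⟨𝟙 _, Category.id_comp _⟩
      have h2 := ((hE₂ E j₂).1 ⟨𝟙 _, Category.id_comp _⟩).comp e
      have h1' := (h1.comp j₂).comp e
      simp only [← whiskerLeft_comp_assoc] at h1' h2
      simp only [j, Category.assoc] at h1' h2 ⊢
      exact ⟨(le_iff _ _).1 h1' W t q, (le_iff _ _).1 h2 W t q⟩
    · intro h
      obtain ⟨e₁, he₁⟩ := (hE₁ Z g).2 ((le_iff _ _).2 fun W t q hq => by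
        rw [← whiskerLeft_comp_assoc] at hq ⊢
        exact (h W t q).1 hq)
      obtain ⟨e, he⟩ := (hE₂ Z e₁).2 ((le_iff _ _).2 fun W t q hq => by
        rw [← whiskerLeft_comp_assoc, reassoc_of% he₁] at hq ⊢
        exact (h W t q).2 hq)
      exact ⟨e, by rw [← he₁, ← he, Category.assoc]⟩
  obtain ⟨r, hr₁, hr₂⟩ := D.exists_rel ((hsame E j).1 ⟨𝟙 _, Category.id_comp _⟩)
  have hr : r ≫ lift D.tR D.sR = j ≫ opnIncl _ (O z) := by
    ext1
    · rw [Category.assoc, lift_fst, hr₁]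
    · rw [Category.assoc, lift_snd, hr₂]
  haveI : Mono j := (Over.forget S).mono_of_mono_map (inferInstanceAs (Mono j.left))
  have hpb : IsPullback r j (lift D.tR D.sR) (opnIncl _ (O z)) := by
    refine ⟨⟨hr⟩, ⟨?_⟩⟩
    have key : ∀ c : PullbackCone (lift D.tR D.sR) (opnIncl (D.U ⊗ D.U) (O z)),
        ∃ e : c.pt ⟶ E, e ≫ j = c.snd := fun c => (hsame _ _).2 (by
      rw [← c.condition]
      simp only [Category.assoc, lift_fst, lift_snd]
      exact D.same_of_rel c.fst)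
    refine PullbackCone.IsLimit.mk _ (fun c => (key c).choose) (fun c => ?_)
      (fun c => (key c).choose_spec) (fun c m _ h₂ => ?_)
    · rw [← cancel_mono (lift D.tR D.sR), Category.assoc, hr, ← Category.assoc, (key c).choose_spec,
        c.condition]
    · rw [← cancel_mono j, (key c).choose_spec, h₂]
  have hpb' := hpb.map (Over.forget S)
  have e := hpb'.isoPullback_inv_snd
  show IsClosedImmersion (pullback.snd (lift D.tR D.sR).left (O z).ι)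
  refine (MorphismProperty.cancel_left_of_respectsIso @IsClosedImmersion hpb'.isoPullback.hom _).1 ?_
  exact Eq.mpr (congrArg IsClosedImmersion hpb'.isoPullback_hom_snd) hj

end Pieces

end Groth.Misc15.MTSub
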