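import Groth.Agent.Misc15.MTSub.Family
import Groth.Agent.Misc15.MTSub.Invariant
import Groth.Agent.MiscGeom97.ClosedDescent
import Groth.Agent.Agf.SubobjGrp
import Groth.Agent.Misc15.SubLift.Torsion

/-!
The scheme of subgroups of multiplicative type and its universal subgroup.
-/

set_option autoImplicit false
set_option linter.style.haveILetI false
universe u

open CategoryTheory CategoryTheory.Limits MonoidalCategory CartesianMonoidalCategory MonObj AlgebraicGeometry
open Groth.Reductive Groth.Reductive.MTInt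

noncomputable section

namespace Groth.Misc15.MTSub

variable {S : Scheme.{u}} {G : Over S} [GrpObj G]

/-- The points of a subscheme over `M`, as subsets of the points of `G`. -/
def KPts {M K : Over S} (jK : K ⟶ G ⊗ M) {Z : Over S} (z : Z ⟶ M) (g : Z ⟶ G) : Prop :=
  ∃ k : Z ⟶ K, k ≫ jK = lift g z

omit [GrpObj G] in
/-- Membership in a closed subscheme descends along covers. -/
theorem kPts_descend {M K : Over S} (jK : K ⟶ G ⊗ M) [Mono jK.left] {Z Z' : Over S}
    (c : Z' ⟶ Z) [Groth.Pi1Desc.IsCover c.left] (z : Z ⟶ M) (g : Z ⟶ G)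
    (h : KPts jK (c ≫ z) (c ≫ g)) : KPts jK z g := by
  obtain ⟨k, hk⟩ := h
  rw [← comp_lift] at hk
  obtain ⟨w, hw⟩ := Groth.Pi1Desc.exists_lift_of_isCover c.left jK.left (lift g z).left k.left
    (congrArg CommaMorphism.left hk)
  exact ⟨Over.homMk w (by rw [← Over.w jK, ← Category.assoc, hw]; exact Over.w (lift g z)),
    Over.OverMorphism.ext hw⟩

/-- A monomorphism into a base change from the source of a family. -/
theorem exists_grpIso_of_image {T : Scheme.{u}} {A B X : Over T} [GrpObj A] [GrpObj B] [GrpObj X]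
    (a : A ⟶ X) (b : B ⟶ X) [IsMonHom a] [IsMonHom b] [Mono a] [Mono b]
    (h : ∀ (W : Over T) (x : W ⟶ X), (∃ y, y ≫ a = x) ↔ ∃ y, y ≫ b = x) :
    Nonempty (Grp.mk A ≅ Grp.mk B) := by
  choose f hf using fun (W : Over T) (y : W ⟶ A) => (h W (y ≫ a)).1 ⟨y, rfl⟩
  choose f' hf' using fun (W : Over T) (y : W ⟶ B) => (h W (y ≫ b)).2 ⟨y, rfl⟩
  refine Groth.Misc15.SubLift.grpIso_of_points (fun W =>
    { toFun := f W
      invFun := f' W
      left_inv := fun y => (cancel_mono a).1 (by rw [hf', hf])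
      right_inv := fun y => (cancel_mono b).1 (by rw [hf, hf'])
      map_mul' := fun x y => (cancel_mono b).1 (by rw [MonObj.mul_comp, hf, hf, hf, MonObj.mul_comp]) }) ?_
  intro Z W w x
  show f W (w ≫ x) = w ≫ f Z x
  rw [← cancel_mono b, Category.assoc, hf, hf, Category.assoc]

/-- The data of the scheme of subgroups of multiplicative type. -/
structure Model (D : Pieces G) where
  /-- the scheme -/
  M : Over S
  /-- the chart -/
  q : D.U ⟶ M
  etale : Etale q.left
  surj : Surjective q.left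
  sq : IsPullback D.tR D.sR q q
  /-- the subgroup -/
  K : Over S
  /-- its inclusion -/
  jK : K ⟶ G ⊗ M
  closed : IsClosedImmersion jK.left
  pts : ∀ {Z : Over S} (z : Z ⟶ D.U) (g : Z ⟶ G), KPts jK (z ≫ q) g ↔ D.Pts z g

variable (D : Pieces G)

theorem exists_model_of_invariant (hGa : IsAffineHom G.hom)
    (hinv : ∀ u : D.U.left, ∃ (O : D.U.left.Opens) (T : Over S) (π₀ : opnOb D.U O ⟶ T), u ∈ O ∧
      IsAffineOpen O ∧ IsAffine T.left ∧ LocallyQuasiFinite π₀.left ∧ LocallyOfFiniteType π₀.left ∧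
      ∀ (Z : Over S) (r : Z ⟶ D.R) (a b : Z ⟶ opnOb D.U O),
        a ≫ opnIncl D.U O = r ≫ D.tR → b ≫ opnIncl D.U O = r ≫ D.sR → a ≫ π₀ = b ≫ π₀) :
    Nonempty (Model D) := by
  haveI := D.isClosedImmersion_lift hGa
  obtain ⟨M, q, he, hs, sq⟩ := exists_etale_quotient D.tR D.sR D.isEqvRel hinv
  have heq : ∀ {Z : Over S} {a b : Z ⟶ D.U}, a ≫ q = b ≫ q → D.Same a b := fun {Z a b} h => by
    obtain ⟨r, hr₁, hr₂⟩ : ∃ r, r ≫ D.tR = a ∧ r ≫ D.sR = b := ⟨sq.lift a b h, sq.lift_fst _ _ _, sq.lift_snd _ _ _⟩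
    rw [← hr₁, ← hr₂]; exact D.same_of_rel r
  haveI := he
  haveI := hs
  have sqG := Groth.AlgGrp1.isPullback_whiskerLeft G q
  haveI : Etale (G ◁ q).left := MorphismProperty.of_isPullback (P := @Etale) sqG he
  haveI : Surjective (G ◁ q).left := MorphismProperty.of_isPullback (P := @Surjective) sqG hs
  haveI := D.isClosedImmersion_pU_qU hGa
  obtain ⟨Z, j, qK, hj, hpb⟩ := Groth.Pi1Desc.exists_closed_descent (G ◁ q).left (lift D.pU D.qU).left
    (fun T v x e => by
      let T' : Over S := Over.mk (x ≫ (G ⊗ D.U).hom)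
      let x' : T' ⟶ G ⊗ D.U := Over.homMk x rfl
      let v' : T' ⟶ D.KU := Over.homMk v (by
        have h1 := congrArg (· ≫ (G ⊗ M).hom) e
        simp only [Category.assoc, Over.w (G ◁ q)] at h1
        rw [Over.w (lift D.pU D.qU)] at h1
        exact h1)
      have e' : v' ≫ lift D.pU D.qU ≫ (G ◁ q) = x' ≫ (G ◁ q) := Over.OverMorphism.ext e
      have hg := congrArg (· ≫ fst G M) e'
      have hz := congrArg (· ≫ snd G M) e'
      simp only [Category.assoc, whiskerLeft_fst, whiskerLeft_snd, lift_fst, lift_snd_assoc] at hg hz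
      have hs' : D.Same (v' ≫ D.qU) (x' ≫ snd G D.U) := heq (by rw [Category.assoc, hz, Category.assoc])
      have h1 := (hs' T' (𝟙 _) (x' ≫ fst G D.U)).1 ⟨v', (Category.id_comp _).symm, hg⟩
      rw [Category.id_comp] at h1
      obtain ⟨k, hk₁, hk₂⟩ := h1
      refine ⟨k.left, ?_⟩
      have hk : k ≫ lift D.pU D.qU = x' := by
        ext1
        · rw [Category.assoc, lift_fst, hk₂]
        · rw [Category.assoc, lift_snd, hk₁]
      exact congrArg CommaMorphism.left hk)
  let K : Over S := Over.mk (j ≫ (G ⊗ M).hom)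
  let jK : K ⟶ G ⊗ M := Over.homMk j rfl
  let qK' : D.KU ⟶ K := Over.homMk qK (by
    show qK ≫ j ≫ (G ⊗ M).hom = D.KU.hom
    rw [← Category.assoc, hpb.w, Category.assoc, Over.w (G ◁ q), Over.w (lift D.pU D.qU)])
  have hpb' : IsPullback qK' (lift D.pU D.qU) jK (G ◁ q) :=
    IsPullback.of_map (Over.forget S) (Over.OverMorphism.ext hpb.w) hpb
  refine ⟨⟨M, q, he, hs, sq, K, jK, hj, fun {W} z g => ⟨?_, ?_⟩⟩⟩
  · rintro ⟨k, hk⟩
    let l := hpb'.lift k (lift g z) (by rw [hk]; ext1 <;> simp)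
    have hl : l ≫ lift D.pU D.qU = lift g z := hpb'.lift_snd _ _ _
    exact ⟨l, by simpa using congrArg (· ≫ snd _ _) hl, by simpa using congrArg (· ≫ fst _ _) hl⟩
  · rintro ⟨k, rfl, rfl⟩
    refine ⟨k ≫ qK', ?_⟩
    rw [Category.assoc, hpb'.w, ← Category.assoc]
    ext1 <;> simp

theorem exists_model (hG : Smooth G.hom) (hGa : IsAffineHom G.hom) : Nonempty (Model D) :=
  exists_model_of_invariant D hGa (D.exists_invariant hG hGa)

namespace Model

variable {D} (X : Model D)

theorem eq_of_same {Z : Over S} {a b : Z ⟶ D.U} (h : D.Same a b) : a ≫ X.q = b ≫ X.q := by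
  obtain ⟨r, rfl, rfl⟩ := D.exists_rel h
  rw [Category.assoc, Category.assoc, X.sq.w]

/-- Every point lifts after a cover. -/
theorem exists_lift {Z : Over S} (z : Z ⟶ X.M) : ∃ (Z' : Over S) (c : Z' ⟶ Z) (a : Z' ⟶ D.U),
    Groth.Pi1Desc.IsCover c.left ∧ Epi c.left ∧ a ≫ X.q = c ≫ z := by
  haveI := X.etale
  haveI := X.surj
  haveI : Etale (pullback.fst z.left X.q.left) := MorphismProperty.pullback_fst _ _ X.etale
  haveI : Surjective (pullback.fst z.left X.q.left) := MorphismProperty.pullback_fst _ _ X.surj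
  let Z' : Over S := Over.mk (pullback.fst z.left X.q.left ≫ Z.hom)
  refine ⟨Z', Over.homMk (pullback.fst z.left X.q.left) rfl, Over.homMk (pullback.snd z.left X.q.left) (by
    show _ = pullback.fst z.left X.q.left ≫ Z.hom
    rw [← Over.w X.q, ← Category.assoc, ← pullback.condition, Category.assoc, Over.w z]), ?_, ?_,
    Over.OverMorphism.ext pullback.condition.symm⟩
  · exact inferInstanceAs (Groth.Pi1Desc.IsCover (pullback.fst z.left X.q.left))
  · exact Flat.epi_of_flat_of_surjective (pullback.fst z.left X.q.left)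

theorem smooth_M (D : Pieces G) (X : Model D) (hs : ∀ i : Idx.{u}, Smooth (D.P i).hom) : Smooth X.M.hom := by
  haveI := X.etale
  haveI := X.surj
  haveI : Smooth (X.q.left ≫ X.M.hom) := by rw [Over.w X.q]; exact D.smooth_U hs
  exact Groth.AlgSp2.smooth_of_comp_surjective X.q.left X.M.hom

theorem isSeparated_M (hGa : IsAffineHom G.hom) : IsSeparated X.M.hom := by
  haveI := X.etale
  haveI := X.surj
  haveI := D.isClosedImmersion_lift hGa
  let p : D.U ⊗ D.U ⟶ X.M ⊗ X.M := (D.U ◁ X.q) ≫ (X.q ▷ X.M)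
  have sq₁ := Groth.AlgGrp1.isPullback_whiskerLeft D.U X.q
  have sq₂ := Groth.AlgGrp1.isPullback_whiskerRight X.q X.M
  haveI : Etale (D.U ◁ X.q).left := MorphismProperty.of_isPullback (P := @Etale) sq₁ X.etale
  haveI : Surjective (D.U ◁ X.q).left := MorphismProperty.of_isPullback (P := @Surjective) sq₁ X.surj
  haveI : Etale (X.q ▷ X.M).left := MorphismProperty.of_isPullback (P := @Etale) sq₂ X.etale
  haveI : Surjective (X.q ▷ X.M).left := MorphismProperty.of_isPullback (P := @Surjective) sq₂ X.surj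
  haveI : Etale p.left := inferInstanceAs (Etale ((D.U ◁ X.q).left ≫ (X.q ▷ X.M).left))
  haveI : Surjective p.left := inferInstanceAs (Surjective ((D.U ◁ X.q).left ≫ (X.q ▷ X.M).left))
  let d : X.M ⟶ X.M ⊗ X.M := lift (𝟙 _) (𝟙 _)
  have hp₁ : p ≫ fst _ _ = fst _ _ ≫ X.q := by simp [p]
  have hp₂ : p ≫ snd _ _ = snd _ _ ≫ X.q := by simp [p]
  have hpb : IsPullback (D.tR ≫ X.q) (lift D.tR D.sR) d p := by
    refine ⟨⟨?_⟩, ⟨?_⟩⟩
    · ext1
      · simp [d, hp₁]
      · rw [Category.assoc, Category.assoc, Category.assoc, hp₂, lift_snd_assoc]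
        simp [d, X.sq.w]
    refine PullbackCone.IsLimit.mk _ (fun c => X.sq.lift (c.snd ≫ fst _ _) (c.snd ≫ snd _ _) ?_)
      (fun c => ?_) (fun c => ?_) (fun c m _ h₂ => ?_)
    · rw [Category.assoc, Category.assoc, ← hp₁, ← hp₂, ← reassoc_of% c.condition, ← reassoc_of% c.condition]
      simp [d]
    · rw [← Category.assoc, X.sq.lift_fst, Category.assoc, ← hp₁, ← reassoc_of% c.condition]
      simp [d]
    · ext1
      · exact (Category.assoc _ _ _).trans ((congrArg (_ ≫ ·) (lift_fst _ _)).trans (X.sq.lift_fst _ _ _))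
      · exact (Category.assoc _ _ _).trans ((congrArg (_ ≫ ·) (lift_snd _ _)).trans (X.sq.lift_snd _ _ _))
    · apply X.sq.hom_ext
      · rw [X.sq.lift_fst, ← h₂, Category.assoc, lift_fst]
      · rw [X.sq.lift_snd, ← h₂, Category.assoc, lift_snd]
  haveI hd : IsClosedImmersion d.left :=
    Groth.Pi1Desc.isClosedImmersion_of_isPullback (q := (D.tR ≫ X.q).left) (i := (lift D.tR D.sR).left) (j := d.left) (p := p.left) (hpb.map (Over.forget S))
  refine ⟨?_⟩
  have e : pullback.diagonal X.M.hom = d.left := by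
    apply pullback.hom_ext
    · rw [pullback.diagonal_fst]
      exact (congrArg CommaMorphism.left (lift_fst (𝟙 X.M) (𝟙 X.M))).symm
    · rw [pullback.diagonal_snd]
      exact (congrArg CommaMorphism.left (lift_snd (𝟙 X.M) (𝟙 X.M))).symm
  rw [e]
  exact hd

theorem kPts_one {Z : Over S} (z : Z ⟶ X.M) : KPts X.jK z 1 := by
  obtain ⟨Z', c, a, hc, -, ha⟩ := X.exists_lift z
  haveI := X.closed
  haveI : Mono X.jK.left := inferInstance
  haveI := hc
  refine kPts_descend X.jK c z 1 ?_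
  rw [← ha, X.pts, MonObj.comp_one]
  exact D.pts_one a

theorem kPts_mul {Z : Over S} {z : Z ⟶ X.M} {g g' : Z ⟶ G} (h : KPts X.jK z g) (h' : KPts X.jK z g') :
    KPts X.jK z (g * g') := by
  obtain ⟨Z', c, a, hc, -, ha⟩ := X.exists_lift z
  haveI := X.closed
  haveI : Mono X.jK.left := inferInstance
  haveI := hc
  obtain ⟨k, hk⟩ := h
  obtain ⟨k', hk'⟩ := h'
  refine kPts_descend X.jK c z _ ?_
  rw [← ha, X.pts, MonObj.comp_mul]
  refine D.pts_mul ((X.pts a _).1 ⟨c ≫ k, ?_⟩) ((X.pts a _).1 ⟨c ≫ k', ?_⟩)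
  · rw [Category.assoc, hk, ha, comp_lift]
  · rw [Category.assoc, hk', ha, comp_lift]

theorem kPts_inv {Z : Over S} {z : Z ⟶ X.M} {g : Z ⟶ G} (h : KPts X.jK z g) : KPts X.jK z g⁻¹ := by
  obtain ⟨Z', c, a, hc, -, ha⟩ := X.exists_lift z
  haveI := X.closed
  haveI : Mono X.jK.left := inferInstance
  haveI := hc
  obtain ⟨k, hk⟩ := h
  refine kPts_descend X.jK c z _ ?_
  rw [← ha, X.pts, GrpObj.comp_inv]
  exact D.pts_inv ((X.pts a _).1 ⟨c ≫ k, by rw [Category.assoc, hk, ha, comp_lift]⟩)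

/-- The universal subgroup, over the scheme of subgroups. -/
def Kun : Over X.M.left := Over.mk (X.jK ≫ snd G X.M).left

/-- Its inclusion. -/
def jun : X.Kun ⟶ Red.bc X.M.hom G :=
  Over.homMk X.jK.left (by
    show X.jK.left ≫ pullback.snd G.hom X.M.hom = (X.jK ≫ snd G X.M).left
    rfl)

theorem isClosedImmersion_jun : IsClosedImmersion X.jun.left := X.closed

theorem factors_jun_iff {W : Over X.M.left} (h : W ⟶ Red.bc X.M.hom G) :
    (∃ y, y ≫ X.jun = h) ↔ KPts X.jK (pr X.M W) (bcPointEquiv X.M.hom G W h) := by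
  have e1 : ∀ (c : W ⟶ Red.bc X.M.hom G),
      (bcPointEquiv X.M.hom G W c).left = c.left ≫ pullback.fst G.hom X.M.hom := fun c => by
    simp [bcPointEquiv, Adjunction.homEquiv_counit]
  have e2 : (lift (bcPointEquiv X.M.hom G W h) (pr X.M W)).left = h.left := by
    apply pullback.hom_ext
    · exact (congrArg CommaMorphism.left (lift_fst (bcPointEquiv X.M.hom G W h) (pr X.M W))).trans (e1 h)
    · exact (congrArg CommaMorphism.left (lift_snd (bcPointEquiv X.M.hom G W h) (pr X.M W))).trans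
        (Over.w h).symm
  constructor
  · rintro ⟨y, rfl⟩
    let k : (Over.map X.M.hom).obj W ⟶ X.K := Over.homMk y.left (by
      show y.left ≫ X.K.hom = W.hom ≫ X.M.hom
      rw [← Over.w y]
      show _ = (y.left ≫ (X.jK ≫ snd G X.M).left) ≫ X.M.hom
      exact ((Category.assoc _ _ _).trans (congrArg (y.left ≫ ·) (Over.w (X.jK ≫ snd G X.M)))).symm)
    exact ⟨k, Over.OverMorphism.ext (Eq.trans rfl e2.symm)⟩
  · rintro ⟨k, hk⟩
    have hk' : k.left ≫ X.jK.left = h.left := (congrArg CommaMorphism.left hk).trans e2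
    refine ⟨Over.homMk k.left ?_, Over.OverMorphism.ext hk'⟩
    show k.left ≫ (X.jK ≫ snd G X.M).left = W.hom
    rw [Over.comp_left, ← Category.assoc, hk']
    exact Over.w h

theorem exists_grpObj_Kun : ∃ _ : GrpObj X.Kun, IsMonHom X.jun := by
  haveI := X.isClosedImmersion_jun
  haveI : Mono X.jun := (Over.forget _).mono_of_mono_map (inferInstanceAs (Mono X.jun.left))
  refine Groth.Agf.exists_grpObj_of_subgroup X.jun
    (fun W h => KPts X.jK (pr X.M W) (bcPointEquiv X.M.hom G W h)) (fun W h => X.factors_jun_iff h)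
    (fun W => ?_) (fun W a b ha hb => ?_) (fun W a ha => ?_)
  · rw [map_one]; exact X.kPts_one _
  · rw [map_mul]; exact X.kPts_mul ha hb
  · rw [map_inv]; exact X.kPts_inv ha

end Model

end Groth.Misc15.MTSub
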