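import Groth.Agent.Misc15.MTSub.Univ

/-!
The universal subgroup is of multiplicative type and of finite type.
-/

set_option autoImplicit false
set_option linter.style.haveILetI false
universe u

open CategoryTheory CategoryTheory.Limits MonoidalCategory CartesianMonoidalCategory MonObj AlgebraicGeometry
open Groth.Reductive Groth.Reductive.MTInt

noncomputable section

namespace Groth.Misc15.MTSub

variable {S : Scheme.{u}} {G : Over S} [GrpObj G]

/-- Points of a diagonalisable group over an object over the base, as points over the base. -/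
def dsUp {V : Scheme.{u}} {M : Scheme.{u}} (f : V ⟶ M) (g : M ⟶ S) (N : Type) [AddCommGroup N] (W : Over V) :
    (W ⟶ Red.DS V N) ≃* ((Over.map g).obj ((Over.map f).obj W) ⟶ Red.DS S N) :=
  (dsValEquiv N W).trans (dsValEquiv N ((Over.map g).obj ((Over.map f).obj W))).symm

theorem dsUp_comp {V : Scheme.{u}} {M : Scheme.{u}} (f : V ⟶ M) (g : M ⟶ S) (N : Type) [AddCommGroup N]
    {W W' : Over V} (w : W' ⟶ W) (x : W ⟶ Red.DS V N) :
    dsUp f g N W' (w ≫ x) = (Over.map g).map ((Over.map f).map w) ≫ dsUp f g N W x := by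
  refine dsVal_ext fun m => ?_
  have key : ∀ (W : Over V) (y : W ⟶ Red.DS V N), dsVal (dsUp f g N W y) m = dsVal y m := fun W y =>
    dsVal_dsMk (S := S) ((Over.map g).obj ((Over.map f).obj W)) (dsValHom (S := V) (X := W) y : Multiplicative N →* Γ(W.left, ⊤)) m
  rw [dsVal_comp]
  exact (key W' (w ≫ x)).trans ((dsVal_comp w x m).trans (congrArg w.left.appTop (key W x).symm))

variable {D : Pieces G} (X : Model D)

namespace Model

theorem isMultTypeFT_Kun [GrpObj X.Kun] [IsMonHom X.jun] : SGA3x.IsMultTypeFT X.Kun := by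
  haveI := X.etale
  haveI := X.surj
  refine ⟨D.U.left, X.q.left, inferInstance, inferInstance, fun V hV => ?_, fun u => ?_⟩
  · obtain ⟨W, hW, hWV⟩ := Groth.Pi1Desc.IsCover.exists_isCompact_image_eq X.q.left hV
    exact ⟨W, hW, hWV⟩
  obtain ⟨i, y, rfl⟩ := D.inc_surjective u
  let Uo : D.U.left.Opens := (D.inc i).left.opensRange
  let f' : (Uo : Scheme.{u}) ⟶ X.M.left := Uo.ι ≫ X.q.left
  let ψ : (Uo : Scheme.{u}) ⟶ (D.P i).left := (D.inc i).left.isoOpensRange.inv
  have hψ : ψ ≫ (D.inc i).left = Uo.ι := Scheme.Hom.isoOpensRange_inv_comp _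
  refine ⟨Uo, ⟨y, rfl⟩, i.Λ, inferInstance, inferInstance, ?_⟩
  let A : Over (Uo : Scheme.{u}) → Over S := fun W => (Over.map X.M.hom).obj ((Over.map f').obj W)
  let t : ∀ W : Over (Uo : Scheme.{u}), A W ⟶ D.P i := fun W => Over.homMk (W.hom ≫ ψ) (by
    show (W.hom ≫ ψ) ≫ (D.P i).hom = (W.hom ≫ f') ≫ X.M.hom
    simp only [f', Category.assoc]
    rw [← Over.w (D.inc i), ← Category.assoc ψ, hψ, Over.w X.q])
  have ht : ∀ W, t W ≫ D.inc i ≫ X.q = pr X.M ((Over.map f').obj W) := fun W => by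
    refine Over.OverMorphism.ext ?_
    show (W.hom ≫ ψ) ≫ (D.inc i).left ≫ X.q.left = W.hom ≫ Uo.ι ≫ X.q.left
    rw [Category.assoc, reassoc_of% hψ]
  let Ω := Red.bc f' (Red.bc X.M.hom G)
  let π : ∀ W : Over (Uo : Scheme.{u}), (W ⟶ Ω) ≃* (A W ⟶ G) := fun W =>
    (bcPointEquiv f' (Red.bc X.M.hom G) W).trans (bcPointEquiv X.M.hom G ((Over.map f').obj W))
  have hπ : ∀ {W W' : Over (Uo : Scheme.{u})} (w : W' ⟶ W) (x : W ⟶ Ω),
      π W' (w ≫ x) = (Over.map X.M.hom).map ((Over.map f').map w) ≫ π W x := fun w x =>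
    (congrArg _ (bcPointEquiv_comp f' (Red.bc X.M.hom G) w x)).trans (bcPointEquiv_comp X.M.hom G _ _)
  let E := fun W : Over (Uo : Scheme.{u}) => dsUp f' X.M.hom i.Λ W
  let v : Red.DS (Uo : Scheme.{u}) i.Λ ⟶ Ω := (π _).symm (lift (E _ (𝟙 _)) (t _) ≫ D.υ i)
  have hv : ∀ (W : Over (Uo : Scheme.{u})) (x : W ⟶ Red.DS (Uo : Scheme.{u}) i.Λ),
      π W (x ≫ v) = lift (E W x) (t W) ≫ D.υ i := fun W x => by
    rw [hπ, MulEquiv.apply_symm_apply, comp_lift_assoc]
    have h1 : (Over.map X.M.hom).map ((Over.map f').map x) ≫ E _ (𝟙 _) = E W x := by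
      rw [← dsUp_comp, Category.comp_id]
    rw [h1]
    congr 2
    refine Over.OverMorphism.ext ?_
    show x.left ≫ _ ≫ ψ = W.hom ≫ ψ
    rw [← Category.assoc, Over.w x]
  haveI : IsMonHom v := Groth.AlgGrp1.isMonHom_of_points v fun W a b => by
    apply (π W).injective
    rw [map_mul, hv, hv, hv, map_mul]
    exact D.hom i _ _ _ _
  haveI : Mono v := ⟨fun {W} a b h => (E W).injective ((D.inj i).eq (D.hom i) (t W) (by rw [← hv, ← hv, h]))⟩
  let j' := (Over.pullback f').map X.jun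
  haveI := X.isClosedImmersion_jun
  haveI : Mono X.jun := (Over.forget _).mono_of_mono_map (inferInstanceAs (Mono X.jun.left))
  haveI : Mono j' := ⟨fun {W} a b h => by
    apply (bcPointEquiv f' X.Kun W).injective
    rw [← cancel_mono X.jun, ← Groth.Reductive.MTInt.bcPointEquiv_map, h, Groth.Reductive.MTInt.bcPointEquiv_map]⟩
  refine exists_grpIso_of_image (X := Ω) j' v fun W x => ?_
  have h1 : (∃ y, y ≫ j' = x) ↔ ∃ z, z ≫ X.jun = bcPointEquiv f' (Red.bc X.M.hom G) W x := by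
    constructor
    · rintro ⟨y, rfl⟩
      exact ⟨_, (Groth.Reductive.MTInt.bcPointEquiv_map f' X.jun y).symm⟩
    · rintro ⟨z, hz⟩
      refine ⟨(bcPointEquiv f' X.Kun W).symm z, (bcPointEquiv f' (Red.bc X.M.hom G) W).injective ?_⟩
      rw [Groth.Reductive.MTInt.bcPointEquiv_map, MulEquiv.apply_symm_apply, hz]
  rw [h1, X.factors_jun_iff]
  show KPts X.jK _ (π W x) ↔ _
  rw [← ht, ← Category.assoc, X.pts, D.pts_inc_iff]
  constructor
  · rintro ⟨h, hh⟩
    refine ⟨(E W).symm h, (π W).injective ?_⟩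
    rw [hv, MulEquiv.apply_symm_apply, hh]
  · rintro ⟨y, rfl⟩
    exact ⟨_, (hv W y).symm⟩

end Model

end Groth.Misc15.MTSub
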